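import Mathlib
import Groth.Prelude.Def_DCoh4
import Groth.Agent.Lib.Lead.FLF1
import Groth.Agent.Lib.Helper5.Perf.ConePerf
import Groth.Agent.Lib.Helper5.Perf.RpushOpen
import Groth.Agent.Lib.Helper5.RestrTen.RestrTenS
import Groth.Agent.Lib.Helper5.KFlatSite2.TensorUnit
import Groth.Agent.Lib.Helper5.KFlatSite2.Symm

/-!
# Finite locally free modules: finite coproducts and tensor products
-/
set_option autoImplicit false
set_option linter.unusedSectionVars false
set_option linter.unusedVariables false
universe u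
open CategoryTheory CategoryTheory.Limits MonoidalCategory Opposite TopologicalSpace
  AlgebraicGeometry
open Groth.Agent.Lead.FLF Groth.Agent.Lib.Helper5.ConePerf Groth.Agent.Lib.Helper5.RestrTen

namespace Groth.Agent.Lib.Helper5.LTenFlf

section General

variable {C : Type*} [Category C] [HasZeroMorphisms C]

/-- a coproduct of zero objects is zero -/
lemma isZero_sigma {I : Type*} (f : I → C) [HasCoproduct f] (h : ∀ i, IsZero (f i)) :
    IsZero (∐ f) := by
  rw [IsZero.iff_id_eq_zero]
  apply Sigma.hom_ext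
  intro i
  exact (h i).eq_of_src _ _

open Classical in
/-- the cofan exhibiting `∐_{s ∈ S} f s` as the coproduct of `f` when `f` vanishes outside `S` -/
noncomputable def cofanFS {I : Type*} (f : I → C) (S : Set I)
    [HasCoproduct (fun s : S => f s.1)] : Cofan f :=
  Cofan.mk (∐ fun s : S => f s.1)
    (fun i => if h : i ∈ S then Sigma.ι (fun s : S => f s.1) ⟨i, h⟩ else 0)

open Classical in
/-- `cofanFS` is a colimit -/
noncomputable def cofanFSIsColimit {I : Type*} (f : I → C) (S : Set I)
    [HasCoproduct (fun s : S => f s.1)] (hz : ∀ i, i ∉ S → IsZero (f i)) :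
    IsColimit (cofanFS f S) :=
  Cofan.IsColimit.mk _ (fun t => Sigma.desc (fun s : S => t.inj s.1))
    (fun t i => by
      by_cases h : i ∈ S
      · have h0 : (cofanFS f S).inj i = Sigma.ι (fun s : S => f s.1) ⟨i, h⟩ := dif_pos h
        have e1 : Sigma.ι (fun s : S => f s.1) ⟨i, h⟩ ≫ Sigma.desc (fun s : S => t.inj s.1) =
          t.inj i := Sigma.ι_desc (fun s : S => t.inj s.1) ⟨i, h⟩
        exact (congrArg (fun z => z ≫ Sigma.desc (fun s : S => t.inj s.1)) h0).trans e1
      · exact (hz i h).eq_of_src _ _)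
    (fun t m hm => by
      refine Sigma.hom_ext (f := fun s : S => f s.1) _ _ (fun s => ?_)
      have h0 : (cofanFS f S).inj s.1 = Sigma.ι (fun s : S => f s.1) s := dif_pos s.2
      have e1 : Sigma.ι (fun s : S => f s.1) s ≫ Sigma.desc (fun s : S => t.inj s.1) =
          t.inj s.1 := Sigma.ι_desc (fun s : S => t.inj s.1) s
      exact ((congrArg (fun z => z ≫ m) h0).symm.trans (hm s.1)).trans e1.symm)

/-- the coproduct of a family vanishing outside `S` -/
noncomputable def sigmaFSIso {I : Type*} (f : I → C) (S : Set I) [HasCoproduct f]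
    [HasCoproduct (fun s : S => f s.1)] (hz : ∀ i, i ∉ S → IsZero (f i)) :
    ∐ f ≅ ∐ fun s : S => f s.1 :=
  (coproductIsCoproduct f).coconePointUniqueUpToIso (cofanFSIsColimit f S hz)

end General

variable {X : Scheme.{u}}

/-- a finite coproduct of finite locally free modules is finite locally free -/
theorem isFinLocFree_coprod_fin : ∀ (n : ℕ) (f : Fin n → X.Modules),
    (∀ i, FlatMod.IsFinLocFree (f i)) → FlatMod.IsFinLocFree (∐ f)
  | 0, f, _ => Groth.Agent.Lib.Helper5.RpushOpen.isFinLocFree_of_isZero _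
      (isZero_sigma f (fun i => i.elim0))
  | n + 1, f, h => by
      have ih := isFinLocFree_coprod_fin n (fun i => f i.succ) (fun i => h i.succ)
      have hc := extendCofanIsColimit f (coproductIsCoproduct (fun i : Fin n => f i.succ))
        (coprodIsCoprod (f 0) (∐ fun i : Fin n => f i.succ))
      let e : ∐ f ≅ f 0 ⨿ ∐ (fun i : Fin n => f i.succ) :=
        (coproductIsCoproduct f).coconePointUniqueUpToIso hc
      exact isFinLocFree_of_iso (e ≪≫ (biprod.isoCoprod _ _).symm).symm
        (isFinLocFree_biprod _ _ (h 0) ih)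

/-- a finite coproduct of finite locally free modules is finite locally free -/
theorem isFinLocFree_coprod_finite {I : Type} [Finite I] (f : I → X.Modules)
    (h : ∀ i, FlatMod.IsFinLocFree (f i)) : FlatMod.IsFinLocFree (∐ f) := by
  obtain ⟨n, ⟨e⟩⟩ := Finite.exists_equiv_fin I
  have h1 := isFinLocFree_coprod_fin n (fun k => f (e.symm k)) (fun k => h _)
  exact isFinLocFree_of_iso (Sigma.reindex e.symm f) h1

/-- a coproduct of finite locally free modules, almost all of which vanish -/
theorem isFinLocFree_sigma_of_finite {I : Type} (f : I → X.Modules)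
    (S : Set I) (hS : S.Finite) (hz : ∀ i, i ∉ S → IsZero (f i))
    (h : ∀ i, FlatMod.IsFinLocFree (f i)) : FlatMod.IsFinLocFree (∐ f) := by
  have : Finite S := hS
  exact isFinLocFree_of_iso (sigmaFSIso f S hz).symm
    (isFinLocFree_coprod_finite (fun s : S => f s.1) (fun s => h _))

lemma tensorBi_eq : DCoh.tensorBi (X := X) = ModSite.tensorBi X.sheaf := rfl

/-- `N ⊗ O ≅ N` -/
noncomputable def tensorUnitIso (N : X.Modules) :
    (DCoh.tensorBi.obj N).obj (Coh.structureModule X) ≅ N :=
  Groth.Agent.Lib.Helper5.TensorUnit.unitIsoApp X.sheaf N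

instance preservesCoproduct_tensorBi_obj (N : X.Modules) (I : Type) :
    PreservesColimitsOfShape (Discrete I) ((DCoh.tensorBi (X := X)).obj N) :=
  Groth.Agent.Lib.Helper5.KFlatSiteQ.preservesColimitsOfShape_discrete_tensorBi_obj
    (O := X.sheaf) I N

/-- `N ⊗ O^n` is finite locally free when `N` is -/
theorem isFinLocFree_tensor_free (N : X.Modules) (hN : FlatMod.IsFinLocFree N) (n : ℕ) :
    FlatMod.IsFinLocFree ((DCoh.tensorBi.obj N).obj (FlatMod.freeMod X n)) := by
  have e1 := PreservesCoproduct.iso ((DCoh.tensorBi (X := X)).obj N)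
    (fun _ : Fin n => Coh.structureModule X)
  have e2 : (∐ fun _ : Fin n => (DCoh.tensorBi.obj N).obj (Coh.structureModule X)) ≅
      ∐ fun _ : Fin n => N := Sigma.mapIso (fun _ => tensorUnitIso N)
  exact isFinLocFree_of_iso (e1 ≪≫ e2).symm
    (isFinLocFree_coprod_fin n (fun _ => N) (fun _ => hN))

/-- **the tensor product of finite locally free modules is finite locally free** -/
theorem isFinLocFree_tensor (M N : X.Modules) (hM : FlatMod.IsFinLocFree M)
    (hN : FlatMod.IsFinLocFree N) : FlatMod.IsFinLocFree ((DCoh.tensorBi.obj M).obj N) := by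
  apply isFinLocFree_of_charts
  intro x
  obtain ⟨U, n, hxU, ⟨e⟩⟩ := hN x
  refine ⟨U, U.ι, inferInstance, by simpa using hxU, ?_⟩
  have i1 := restrictTensorIso U.ι M N
  have i2 := ((DCoh.tensorBi (X := (U : Scheme.{u}))).obj
    ((Scheme.Modules.restrictFunctor U.ι).obj M)).mapIso e
  exact isFinLocFree_of_iso (i1 ≪≫ i2).symm
    (isFinLocFree_tensor_free _ (isFinLocFree_restrict U.ι M hM) n)

end Groth.Agent.Lib.Helper5.LTenFlf
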