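import Mathlib
import Groth.Prelude.Def_DCoh4
import Groth.Agent.Lib.Helper5.LTen.Flf

/-!
# The tensor product of strictly perfect complexes is strictly perfect
-/
set_option autoImplicit false
set_option linter.unusedSectionVars false
set_option linter.unusedVariables false
universe u
open CategoryTheory CategoryTheory.Limits AlgebraicGeometry
open Groth.Agent.Lib.Helper5.LTenFlf

namespace Groth.Agent.Lib.Helper5.SPTensor

variable {X : Scheme.{u}}

lemma isZero_tensor_left (M N : X.Modules) (h : IsZero M) :
    IsZero ((DCoh.tensorBi.obj M).obj N) := by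
  rw [IsZero.iff_id_eq_zero]
  have h0 : 𝟙 M = 0 := h.eq_of_src _ _
  have h1 : (DCoh.tensorBi.map (𝟙 M)).app N = 𝟙 _ := by
    rw [CategoryTheory.Functor.map_id]; rfl
  rw [← h1, h0, CategoryTheory.Functor.map_zero]
  rfl

lemma isZero_tensor_right (M N : X.Modules) (h : IsZero N) :
    IsZero ((DCoh.tensorBi.obj M).obj N) :=
  Functor.map_isZero ((DCoh.tensorBi (X := X)).obj M) h

/-- **the tensor product of strictly perfect complexes is strictly perfect** -/
theorem isStrictlyPerfect_tensor (P P' : CochainComplex X.Modules ℤ)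
    (hP : DCoh.IsStrictlyPerfect P) (hP' : DCoh.IsStrictlyPerfect P') :
    DCoh.IsStrictlyPerfect ((DCoh.tensorCx.obj P).obj P') := by
  obtain ⟨⟨a, b, hab⟩, hfl⟩ := hP
  obtain ⟨⟨a', b', hab'⟩, hfl'⟩ := hP'
  let f : ∀ n : ℤ, ((ComplexShape.π (ComplexShape.up ℤ) (ComplexShape.up ℤ)
      (ComplexShape.up ℤ)) ⁻¹' {n}) → X.Modules :=
    fun n i => (DCoh.tensorBi.obj (P.X i.1.1)).obj (P'.X i.1.2)
  have hsum : ∀ (n : ℤ) (i : (ComplexShape.π (ComplexShape.up ℤ) (ComplexShape.up ℤ)
      (ComplexShape.up ℤ)) ⁻¹' {n}), i.1.1 + i.1.2 = n := fun n i => i.2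
  refine ⟨⟨a + a', b + b', fun n hn => ?_⟩, fun n => ?_⟩
  · change IsZero (∐ f n)
    apply isZero_sigma
    intro i
    have hi := hsum n i
    by_cases h1 : i.1.1 < a ∨ b < i.1.1
    · exact isZero_tensor_left _ _ (hab _ h1)
    · apply isZero_tensor_right
      apply hab'
      omega
  · change FlatMod.IsFinLocFree (∐ f n)
    refine isFinLocFree_sigma_of_finite (f n) {i | a ≤ i.1.1 ∧ i.1.1 ≤ b} ?_ ?_ ?_
    · have hinj : Function.Injective (fun i : (ComplexShape.π (ComplexShape.up ℤ)
          (ComplexShape.up ℤ) (ComplexShape.up ℤ)) ⁻¹' {n} => i.1.1) := by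
        intro i j hij
        have hi := hsum n i
        have hj := hsum n j
        apply Subtype.ext
        apply Prod.ext
        · exact hij
        · have : i.1.1 = j.1.1 := hij
          omega
      exact Set.Finite.preimage (Set.injOn_of_injective hinj) (Set.finite_Icc a b)
    · intro i hi
      apply isZero_tensor_left
      apply hab
      simp only [Set.mem_ofPred_eq, not_and, not_le] at hi
      by_cases h : a ≤ i.1.1
      · right; exact hi h
      · left; omega
    · intro i
      exact isFinLocFree_tensor _ _ (hfl _) (hfl' _)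

end Groth.Agent.Lib.Helper5.SPTensor
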