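import Mathlib
import Groth.Prelude.Def_DCoh4
import Groth.Agent.Lib.Helper5.LTen.SPTensor
import Groth.Agent.Lib.Helper5.Misc.StalkFlatSch
import Groth.Agent.Lib.Helper5.Perf.StalkFree
import Groth.Agent.Lib.Helper5.KFlatSite2.Two

/-!
# The derived tensor product with a K-flat complex is computed by the tensor product
-/
set_option autoImplicit false
set_option linter.unusedSectionVars false
set_option linter.unusedVariables false
universe u
open CategoryTheory CategoryTheory.Limits AlgebraicGeometry
open Groth.Agent.Lib.Helper5.StalkAdj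
attribute [local instance] HasDerivedCategory.standard

namespace Groth.Agent.Lib.Helper5.LTenDer

section General

variable {A B : Type*} [Category A] [Abelian A] [Category B] [Abelian B]
  [HasDerivedCategory A] [HasDerivedCategory B]

/-- a functor of complexes preserving quasi-isomorphisms preserves isomorphism classes in the
derived category -/
noncomputable def mapQIso (G : CochainComplex A ℤ ⥤ CochainComplex B ℤ)
    (hG : ∀ {E E' : CochainComplex A ℤ} (φ : E ⟶ E'), QuasiIso φ → QuasiIso (G.map φ))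
    {E E' : CochainComplex A ℤ} (e : DerivedCategory.Q.obj E ≅ DerivedCategory.Q.obj E') :
    DerivedCategory.Q.obj (G.obj E) ≅ DerivedCategory.Q.obj (G.obj E') :=
  have hinv : (HomologicalComplex.quasiIso A (ComplexShape.up ℤ)).IsInvertedBy
      (G ⋙ DerivedCategory.Q) := fun E E' φ hφ => by
    have h1 : QuasiIso (G.map φ) := hG φ ((HomologicalComplex.mem_quasiIso_iff φ).1 hφ)
    exact Localization.inverts DerivedCategory.Q
      (HomologicalComplex.quasiIso B (ComplexShape.up ℤ)) _
      ((HomologicalComplex.mem_quasiIso_iff _).2 h1)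
  let Φ := Localization.lift (G ⋙ DerivedCategory.Q) hinv DerivedCategory.Q
  let fac : DerivedCategory.Q ⋙ Φ ≅ G ⋙ DerivedCategory.Q :=
    Localization.fac _ hinv DerivedCategory.Q
  (fac.app E).symm ≪≫ Φ.mapIso e ≪≫ fac.app E'

end General

variable {X : Scheme.{u}}

/-- finite locally free modules are flat -/
theorem isFlat_of_isFinLocFree (M : X.Modules) (hM : FlatMod.IsFinLocFree M) :
    FlatMod.IsFlat M := by
  intro x
  obtain ⟨h1, h2⟩ := Groth.Agent.Lib.Helper5.StalkFree.free_finite_stalk_of_isFinLocFree M hM x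
  have := h1
  exact (inferInstance : Module.Flat (X.presheaf.stalk x) ((stalkSh X x).obj M))

/-- strictly perfect complexes are K-flat -/
theorem isKFlat_of_isStrictlyPerfect (P : CochainComplex X.Modules ℤ)
    (hP : DCoh.IsStrictlyPerfect P) : DCoh.IsKFlat P := by
  obtain ⟨⟨a, b, hab⟩, hfl⟩ := hP
  have hb : P.IsStrictlyLE b := (CochainComplex.isStrictlyLE_iff P b).2 (fun i hi => hab i (Or.inr hi))
  exact Groth.Agent.Lib.Helper5.Misc.KFlatSite.isKFlat_of_bounded_above (O := X.sheaf) P b hb
    (fun n => Groth.Agent.Lib.Helper5.Misc.StalkFlatSch.isFlat_of_flatMod _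
      (isFlat_of_isFinLocFree _ (hfl n)))

/-- `- ⊗ L` preserves quasi-isomorphisms when `L` is K-flat -/
theorem quasiIso_tensor_flip (L : CochainComplex X.Modules ℤ) (hL : DCoh.IsKFlat L)
    {F F' : CochainComplex X.Modules ℤ} (φ : F ⟶ F') (hφ : QuasiIso φ) :
    QuasiIso (((DCoh.tensorCx (X := X)).flip.obj L).map φ) :=
  Groth.Agent.Lib.Helper5.KFlatSiteQ.quasiIso_tensor_right (O := X.sheaf) hL φ hφ

/-- `P ⊗ -` preserves quasi-isomorphisms when `P` is K-flat -/
theorem quasiIso_tensor_obj (P : CochainComplex X.Modules ℤ) (hP : DCoh.IsKFlat P)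
    {F F' : CochainComplex X.Modules ℤ} (φ : F ⟶ F') (hφ : QuasiIso φ) :
    QuasiIso (((DCoh.tensorCx (X := X)).obj P).map φ) :=
  Groth.Agent.Lib.Helper5.KFlatSiteQ.quasiIso_tensor_left (O := X.sheaf) hP φ hφ

lemma inverts_tensorCxQ (L : CochainComplex X.Modules ℤ) (hL : DCoh.IsKFlat L) :
    (HomologicalComplex.quasiIso X.Modules (ComplexShape.up ℤ)).IsInvertedBy
      (DCoh.tensorCxQ L) := fun E E' φ hφ => by
  have h1 := quasiIso_tensor_flip L hL φ ((HomologicalComplex.mem_quasiIso_iff φ).1 hφ)
  exact Localization.inverts DerivedCategory.Q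
    (HomologicalComplex.quasiIso X.Modules (ComplexShape.up ℤ)) _
    ((HomologicalComplex.mem_quasiIso_iff _).2 h1)

/-- **`K ⊗^L L` is computed by `K ⊗ L` when `L` is K-flat** -/
noncomputable def ltensorObjIso (L : CochainComplex X.Modules ℤ) (hL : DCoh.IsKFlat L)
    [DCoh.HasLTensorCx L] (K₀ : CochainComplex X.Modules ℤ) :
    (DCoh.LTensorCx L).obj (DerivedCategory.Q.obj K₀) ≅
      DerivedCategory.Q.obj ((DCoh.tensorCx.obj K₀).obj L) :=
  haveI : IsIso ((DCoh.tensorCxQ L).totalLeftDerivedCounit DerivedCategory.Q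
      (HomologicalComplex.quasiIso X.Modules (ComplexShape.up ℤ))) :=
    Functor.isIso_of_isLeftDerivedFunctor_of_inverts (DCoh.LTensorCx L) _ (inverts_tensorCxQ L hL)
  (asIso ((DCoh.tensorCxQ L).totalLeftDerivedCounit DerivedCategory.Q
      (HomologicalComplex.quasiIso X.Modules (ComplexShape.up ℤ)))).app K₀

end Groth.Agent.Lib.Helper5.LTenDer
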