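import Mathlib

/-!
# Transferring right Kan extensions along a functor whose whiskering is fully faithful
-/
set_option autoImplicit false
set_option linter.unusedSectionVars false
set_option linter.unusedVariables false
open CategoryTheory CategoryTheory.Functor

namespace Groth.Agent.Lib.Helper5.KanTransfer

lemma aux2 {H : Type*} [Category H] {a a' b c d e : H} (m : a ⟶ b) (m' : a' ⟶ c)
    (ee : a ⟶ a') (i : b ⟶ c) (j : c ⟶ b) (x : b ⟶ d) (p : d ⟶ e) (q : e ⟶ d) (w : a' ⟶ e)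
    (hn : ee ≫ m' = m ≫ i) (hw : m' ≫ j ≫ x ≫ p = w) (hij : i ≫ j = 𝟙 _) (hpq : p ≫ q = 𝟙 _) :
    m ≫ x = ee ≫ w ≫ q := by
  rw [← hw]
  simp only [Category.assoc, hpq, Category.comp_id]
  rw [reassoc_of% hn, reassoc_of% hij]

variable {C C' D H : Type*} [Category C] [Category C'] [Category D] [Category H]
  (π : C ⥤ C') [((whiskeringLeft C C' H).obj π).Full] [((whiskeringLeft C C' H).obj π).Faithful]
  {L' : C' ⥤ D} {F' : C' ⥤ H} {L : C ⥤ D} {F : C ⥤ H}
  (eL : π ⋙ L' ≅ L) (eF : π ⋙ F' ≅ F) (LF : D ⥤ H) (α : L ⋙ LF ⟶ F)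

/-- the whiskered transformation -/
def beta : π ⋙ (L' ⋙ LF) ⟶ π ⋙ F' :=
  (show π ⋙ (L' ⋙ LF) ⟶ L ⋙ LF from whiskerRight eL.hom LF) ≫ α ≫ eF.inv

/-- the transferred transformation -/
noncomputable def alpha' : L' ⋙ LF ⟶ F' :=
  ((whiskeringLeft C C' H).obj π).preimage (beta π eL eF LF α)

lemma whiskerLeft_alpha' : whiskerLeft π (alpha' π eL eF LF α) = beta π eL eF LF α :=
  ((whiskeringLeft C C' H).obj π).map_preimage (beta π eL eF LF α)

lemma alpha'_app (X : C) :
    (alpha' π eL eF LF α).app (π.obj X) =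
      LF.map (eL.hom.app X) ≫ α.app X ≫ eF.inv.app X :=
  congrArg (fun t => t.app X) (whiskerLeft_alpha' π eL eF LF α)

lemma hom_ext_whisker {G₁ G₂ : C' ⥤ H} (a b : G₁ ⟶ G₂)
    (h : ∀ X : C, a.app (π.obj X) = b.app (π.obj X)) : a = b := by
  apply ((whiskeringLeft C C' H).obj π).map_injective
  ext X
  exact h X

/-- **transfer**: a right Kan extension along `L ≅ π ⋙ L'` of `F ≅ π ⋙ F'` is a right Kan
extension along `L'` of `F'` -/
theorem isRightKanExtension_alpha' [LF.IsRightKanExtension α] :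
    LF.IsRightKanExtension (alpha' π eL eF LF α) := by
  refine ⟨⟨Limits.IsTerminal.ofUniqueHom (fun E => CostructuredArrow.homMk
    (LF.liftOfIsRightKanExtension α E.left
      ((show L ⋙ E.left ⟶ π ⋙ (L' ⋙ E.left) from whiskerRight eL.inv E.left) ≫
        whiskerLeft π E.hom ≫ eF.hom)) ?_) ?_⟩⟩
  · apply hom_ext_whisker π
    intro X
    have h := LF.liftOfIsRightKanExtension_fac_app α E.left
      ((show L ⋙ E.left ⟶ π ⋙ (L' ⋙ E.left) from whiskerRight eL.inv E.left) ≫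
        whiskerLeft π E.hom ≫ eF.hom) X
    have hn := (LF.liftOfIsRightKanExtension α E.left
      ((show L ⋙ E.left ⟶ π ⋙ (L' ⋙ E.left) from whiskerRight eL.inv E.left) ≫
        whiskerLeft π E.hom ≫ eF.hom)).naturality (eL.hom.app X)
    dsimp at h hn ⊢
    change _ ≫ (alpha' π eL eF LF α).app (π.obj X) = _
    rw [alpha'_app, ← Category.assoc, ← hn, Category.assoc, reassoc_of% h]
    simp [← Functor.map_comp_assoc]
  · intro E m
    apply CostructuredArrow.hom_ext
    apply LF.hom_ext_of_isRightKanExtension α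
    ext X
    have h := LF.liftOfIsRightKanExtension_fac_app α E.left
      ((show L ⋙ E.left ⟶ π ⋙ (L' ⋙ E.left) from whiskerRight eL.inv E.left) ≫
        whiskerLeft π E.hom ≫ eF.hom) X
    have hw := congrArg (fun t => t.app (π.obj X)) (CostructuredArrow.w m)
    have hn := m.left.naturality (eL.inv.app X)
    dsimp at h
    change m.left.app (L.obj X) ≫ α.app X = (LF.liftOfIsRightKanExtension α E.left
      ((show L ⋙ E.left ⟶ π ⋙ (L' ⋙ E.left) from whiskerRight eL.inv E.left) ≫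
        whiskerLeft π E.hom ≫ eF.hom)).app (L.obj X) ≫ α.app X
    rw [h]
    change m.left.app (L'.obj (π.obj X)) ≫ (alpha' π eL eF LF α).app (π.obj X) =
      E.hom.app (π.obj X) at hw
    change E.left.map (eL.inv.app X) ≫ m.left.app (L'.obj (π.obj X)) =
      m.left.app (L.obj X) ≫ LF.map (eL.inv.app X) at hn
    rw [alpha'_app] at hw
    have hij : LF.map (eL.inv.app X) ≫ LF.map (eL.hom.app X) = 𝟙 (LF.obj (L.obj X)) := by
      rw [← LF.map_comp, Iso.inv_hom_id_app, LF.map_id]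
    exact aux2 _ _ _ _ _ _ _ _ _ hn hw hij (Iso.inv_hom_id_app _ _)

section Converse

variable (α' : L' ⋙ LF ⟶ F')

/-- the transformation induced on `L` -/
def alphaDown : L ⋙ LF ⟶ F :=
  (show L ⋙ LF ⟶ π ⋙ (L' ⋙ LF) from whiskerRight eL.inv LF) ≫ whiskerLeft π α' ≫ eF.hom

lemma alphaDown_app (X : C) :
    (alphaDown π eL eF LF α').app X =
      LF.map (eL.inv.app X) ≫ α'.app (π.obj X) ≫ eF.hom.app X := rfl

/-- the transformation induced from an extension along `L` -/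
noncomputable def gamma' (G : D ⥤ H) (γ : L ⋙ G ⟶ F) : L' ⋙ G ⟶ F' :=
  ((whiskeringLeft C C' H).obj π).preimage
    ((show π ⋙ (L' ⋙ G) ⟶ L ⋙ G from whiskerRight eL.hom G) ≫ γ ≫ eF.inv)

lemma gamma'_app (G : D ⥤ H) (γ : L ⋙ G ⟶ F) (X : C) :
    (gamma' π eL eF G γ).app (π.obj X) = G.map (eL.hom.app X) ≫ γ.app X ≫ eF.inv.app X :=
  congrArg (fun t => t.app X) (((whiskeringLeft C C' H).obj π).map_preimage
    ((show π ⋙ (L' ⋙ G) ⟶ L ⋙ G from whiskerRight eL.hom G) ≫ γ ≫ eF.inv))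

lemma aux3 {H : Type*} [Category H] {a b c d e g : H} (l : a ⟶ b) (l' : c ⟶ d)
    (i' : a ⟶ c) (i : b ⟶ d) (x : d ⟶ e) (q : e ⟶ g) (p : g ⟶ e) (j' : c ⟶ a) (γ : a ⟶ g)
    (hn : i' ≫ l' = l ≫ i) (hf : l' ≫ x = j' ≫ γ ≫ p) (hij : i' ≫ j' = 𝟙 _)
    (hpq : p ≫ q = 𝟙 _) : l ≫ i ≫ x ≫ q = γ := by
  rw [← reassoc_of% hn, reassoc_of% hf, reassoc_of% hij, hpq, Category.comp_id]

lemma aux4 {H : Type*} [Category H] {a b c d e g : H} (m : a ⟶ b) (m' : c ⟶ d)
    (i' : c ⟶ a) (i : d ⟶ b) (j : b ⟶ d) (x : d ⟶ e) (q : e ⟶ g) (p : g ⟶ e) (γ : a ⟶ g)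
    (hn : i' ≫ m = m' ≫ i) (hm : m ≫ j ≫ x ≫ q = γ) (hij : i ≫ j = 𝟙 _)
    (hqp : q ≫ p = 𝟙 _) : m' ≫ x = i' ≫ γ ≫ p := by
  rw [← hm]
  simp only [Category.assoc, hqp, Category.comp_id]
  rw [reassoc_of% hn, reassoc_of% hij]

/-- **converse transfer** -/
theorem isRightKanExtension_alphaDown [LF.IsRightKanExtension α'] :
    LF.IsRightKanExtension (alphaDown π eL eF LF α') := by
  refine ⟨⟨Limits.IsTerminal.ofUniqueHom (fun E => CostructuredArrow.homMk
    (LF.liftOfIsRightKanExtension α' E.left (gamma' π eL eF E.left E.hom)) ?_) ?_⟩⟩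
  · ext X
    have h := LF.liftOfIsRightKanExtension_fac_app α' E.left (gamma' π eL eF E.left E.hom)
      (π.obj X)
    have hn := (LF.liftOfIsRightKanExtension α' E.left
      (gamma' π eL eF E.left E.hom)).naturality (eL.inv.app X)
    rw [gamma'_app] at h
    change (LF.liftOfIsRightKanExtension α' E.left (gamma' π eL eF E.left E.hom)).app (L.obj X) ≫
      (alphaDown π eL eF LF α').app X = E.hom.app X
    rw [alphaDown_app]
    have hij : E.left.map (eL.inv.app X) ≫ E.left.map (eL.hom.app X) = 𝟙 _ := by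
      rw [← E.left.map_comp, Iso.inv_hom_id_app, E.left.map_id]
    exact aux3 _ _ _ _ _ _ _ _ _ hn h hij (Iso.inv_hom_id_app _ _)
  · intro E m
    apply CostructuredArrow.hom_ext
    apply LF.hom_ext_of_isRightKanExtension α'
    apply hom_ext_whisker π
    intro X
    have h := LF.liftOfIsRightKanExtension_fac_app α' E.left (gamma' π eL eF E.left E.hom)
      (π.obj X)
    rw [gamma'_app] at h
    have hw := congrArg (fun t => t.app X) (CostructuredArrow.w m)
    change m.left.app (L.obj X) ≫ (alphaDown π eL eF LF α').app X = E.hom.app X at hw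
    rw [alphaDown_app] at hw
    have hn : E.left.map (eL.hom.app X) ≫ m.left.app (L.obj X) =
        m.left.app (L'.obj (π.obj X)) ≫ LF.map (eL.hom.app X) := m.left.naturality (eL.hom.app X)
    change m.left.app (L'.obj (π.obj X)) ≫ α'.app (π.obj X) =
      (LF.liftOfIsRightKanExtension α' E.left (gamma' π eL eF E.left E.hom)).app
        (L'.obj (π.obj X)) ≫ α'.app (π.obj X)
    rw [h]
    have hij : LF.map (eL.hom.app X) ≫ LF.map (eL.inv.app X) = 𝟙 (LF.obj (L'.obj (π.obj X))) := by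
      rw [← LF.map_comp, Iso.hom_inv_id_app, LF.map_id]
      rfl
    exact aux4 _ _ _ _ _ _ _ _ _ hn hw hij (Iso.hom_inv_id_app _ _)

end Converse

end Groth.Agent.Lib.Helper5.KanTransfer
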