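import Mathlib
import Groth.Agent.Lib.Helper5.KProj.PtKan2
import Groth.Agent.Lib.Helper5.KProj.DerHo
import Groth.Agent.Lib.Helper5.LTen.Transfer

/-!
# Left derived functors along `Q : CochainComplex A ℤ ⥤ D(A)` via adapted complexes
-/
set_option autoImplicit false
set_option linter.unusedSectionVars false
set_option linter.unusedVariables false
universe w v u
open CategoryTheory CategoryTheory.Limits

namespace Groth.Agent.Lib.Helper5.DerQ

open Groth.Agent.Lib.Helper5.KProj Groth.Agent.Lib.Helper5.KanTransfer

variable {A : Type u} [Category.{v} A] [Abelian A] [HasDerivedCategory.{w} A]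
  {H : Type*} [Category H] (F : CochainComplex A ℤ ⥤ H) (KF : CochainComplex A ℤ → Prop)

/-- `KF` is adapted to the homotopy invariant functor `F` -/
structure AdaptedQ : Prop where
  htpy : ∀ {K K' : CochainComplex A ℤ} (f g : K ⟶ K'), Homotopy f g → F.map f = F.map g
  res : ∀ K : CochainComplex A ℤ, ∃ (K' : CochainComplex A ℤ) (q : K' ⟶ K), KF K' ∧ QuasiIso q
  inv : ∀ {K K' : CochainComplex A ℤ} (f : K ⟶ K'), KF K → KF K' → QuasiIso f → IsIso (F.map f)

variable {F KF} (h : AdaptedQ F KF)

/-- the induced functor on the homotopy category -/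
noncomputable def Fh : HomotopyCategory A (ComplexShape.up ℤ) ⥤ H :=
  CategoryTheory.Quotient.lift _ F (fun K K' f g hfg => h.htpy f g hfg.some)

/-- `Fh` lifts `F` -/
noncomputable def eF : HomotopyCategory.quotient A (ComplexShape.up ℤ) ⋙ Fh h ≅ F :=
  CategoryTheory.Quotient.lift.isLift _ F _

lemma Fh_map {K K' : CochainComplex A ℤ} (f : K ⟶ K') :
    (Fh h).map ((HomotopyCategory.quotient A (ComplexShape.up ℤ)).map f) = F.map f := rfl

theorem adapted :
    PtKan2.Adapted (Fh h) (HomotopyCategory.quasiIso A (ComplexShape.up ℤ))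
      (fun X => KF X.as) where
  res := by
    rintro ⟨K⟩
    obtain ⟨K', q, hK', hq⟩ := h.res K
    refine ⟨(HomotopyCategory.quotient A (ComplexShape.up ℤ)).obj K',
      (HomotopyCategory.quotient A (ComplexShape.up ℤ)).map q, hK', ?_⟩
    exact (HomotopyCategory.quotient_map_mem_quasiIso_iff q).2 hq
  inv := by
    rintro ⟨K⟩ ⟨K'⟩ s hK hK' hs
    obtain ⟨f, rfl⟩ := (HomotopyCategory.quotient A (ComplexShape.up ℤ)).map_surjective s
    have hs' : QuasiIso f := (HomotopyCategory.quotient_map_mem_quasiIso_iff f).1 hs
    exact h.inv f hK hK' hs'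

instance : ((Functor.whiskeringLeft _ _ H).obj
    (HomotopyCategory.quotient A (ComplexShape.up ℤ))).Full :=
  Quotient.full_whiskeringLeft_functor _ _

instance : ((Functor.whiskeringLeft _ _ H).obj
    (HomotopyCategory.quotient A (ComplexShape.up ℤ))).Faithful :=
  Quotient.faithful_whiskeringLeft_functor _ _

include h in
/-- **the counit of a left derived functor along `Q` is invertible on adapted complexes** -/
theorem isIso_counit_app (LF : DerivedCategory A ⥤ H) (α : DerivedCategory.Q ⋙ LF ⟶ F)
    [LF.IsLeftDerivedFunctor α (HomologicalComplex.quasiIso A (ComplexShape.up ℤ))]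
    (K : CochainComplex A ℤ) (hK : KF K) : IsIso (α.app K) := by
  have : LF.IsRightKanExtension α := Functor.IsLeftDerivedFunctor.isRightKanExtension LF α
    (HomologicalComplex.quasiIso A (ComplexShape.up ℤ))
  let α' := alpha' (HomotopyCategory.quotient A (ComplexShape.up ℤ))
    (DerivedCategory.quotientCompQhIso A) (eF h) LF α
  have : LF.IsRightKanExtension α' := isRightKanExtension_alpha' _ _ _ LF α
  have : LF.IsLeftDerivedFunctor α' (HomotopyCategory.quasiIso A (ComplexShape.up ℤ)) := ⟨this⟩
  have h1 : IsIso (α'.app ((HomotopyCategory.quotient A (ComplexShape.up ℤ)).obj K)) :=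
    PtKan2.isIso_counit_app (P := fun X => KF X.as) DerivedCategory.Qh (adapted h) hK LF α'
  have h2 := alpha'_app (HomotopyCategory.quotient A (ComplexShape.up ℤ))
    (DerivedCategory.quotientCompQhIso A) (eF h) LF α K
  rw [h2] at h1
  have h3 : IsIso (α.app K ≫ (eF h).inv.app K) := IsIso.of_isIso_comp_left
    (LF.map ((DerivedCategory.quotientCompQhIso A).hom.app K)) _
  exact IsIso.of_isIso_comp_right _ ((eF h).inv.app K)

include h in
/-- **existence of the left derived functor along `Q`** -/
theorem hasLeftDerivedFunctor :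
    F.HasLeftDerivedFunctor (HomologicalComplex.quasiIso A (ComplexShape.up ℤ)) := by
  have := PtKan2.hasLeftDerivedFunctor DerivedCategory.Qh (adapted h)
  let LF := (Fh h).totalLeftDerived DerivedCategory.Qh
    (HomotopyCategory.quasiIso A (ComplexShape.up ℤ))
  let α' := (Fh h).totalLeftDerivedCounit DerivedCategory.Qh
    (HomotopyCategory.quasiIso A (ComplexShape.up ℤ))
  have : LF.IsRightKanExtension α' := Functor.IsLeftDerivedFunctor.isRightKanExtension LF α'
    (HomotopyCategory.quasiIso A (ComplexShape.up ℤ))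
  have h1 := isRightKanExtension_alphaDown (HomotopyCategory.quotient A (ComplexShape.up ℤ))
    (DerivedCategory.quotientCompQhIso A) (eF h) LF α'
  have : LF.IsLeftDerivedFunctor (alphaDown (HomotopyCategory.quotient A (ComplexShape.up ℤ))
    (DerivedCategory.quotientCompQhIso A) (eF h) LF α')
    (HomologicalComplex.quasiIso A (ComplexShape.up ℤ)) := ⟨h1⟩
  exact Functor.HasLeftDerivedFunctor.mk' (LF := LF) (α := alphaDown
    (HomotopyCategory.quotient A (ComplexShape.up ℤ))
    (DerivedCategory.quotientCompQhIso A) (eF h) LF α')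

end Groth.Agent.Lib.Helper5.DerQ
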