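import Mathlib
import Groth.Prelude.Def_DCoh4
import Groth.Agent.Lib.Helper5.LTen.DerQ
import Groth.Agent.Lib.Helper5.LTen.DerInv
import Groth.Agent.Lib.Helper5.KFlatSite2.Two

/-!
# The derived tensor product `- ⊗^L E` exists for every complex `E` and is computed on
K-flat complexes
-/
set_option autoImplicit false
set_option linter.unusedSectionVars false
set_option linter.unusedVariables false
universe u
open CategoryTheory CategoryTheory.Limits AlgebraicGeometry
open Groth.Agent.Lib.Helper5.DerQ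
attribute [local instance] HasDerivedCategory.standard

namespace Groth.Agent.Lib.Helper5.LTenAll

lemma Q_map_eq_of_homotopy {A : Type*} [Category A] [Abelian A] [HasDerivedCategory A]
    {K L : CochainComplex A ℤ} (f g : K ⟶ L) (h : Homotopy f g) :
    DerivedCategory.Q.map f = DerivedCategory.Q.map g := by
  have h1 := DerivedCategory.quotientCompQhIso_hom_naturality f
  have h2 := DerivedCategory.quotientCompQhIso_hom_naturality g
  rw [HomotopyCategory.eq_of_homotopy f g h] at h1
  exact (cancel_epi _).1 (h1.symm.trans h2)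

variable {X : Scheme.{u}} (E : CochainComplex X.Modules ℤ)

/-- K-flat complexes are adapted to `- ⊗ E` -/
theorem adaptedQ_tensorCxQ :
    AdaptedQ (DCoh.tensorCxQ E) (fun K : CochainComplex X.Modules ℤ => DCoh.IsKFlat K) where
  htpy f g hfg := by
    have h1 : Homotopy ((DCoh.tensorCx.map f).app E) ((DCoh.tensorCx.map g).app E) :=
      HomologicalComplex.mapBifunctorMapHomotopy₁ hfg (𝟙 E) DCoh.tensorBi (ComplexShape.up ℤ)
    exact Q_map_eq_of_homotopy _ _ h1
  res K := by
    obtain ⟨P, p, h1, _, h3, _⟩ :=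
      Groth.Agent.Lib.Helper5.KFlatSiteQ.exists_isKFlat_resolution (O := X.sheaf) K
    exact ⟨P, p, h1, h3⟩
  inv f hK hK' hf := by
    have h1 : QuasiIso ((DCoh.tensorCx.map f).app E) :=
      Groth.Agent.Lib.Helper5.KFlatSiteQ.quasiIso_tensor_right_of_isKFlat (O := X.sheaf)
        f hK hK' hf E
    exact (inferInstance : IsIso (DerivedCategory.Q.map ((DCoh.tensorCx.map f).app E)))

/-- **the derived tensor product with any complex exists** -/
theorem hasLTensorCx : DCoh.HasLTensorCx E :=
  hasLeftDerivedFunctor (adaptedQ_tensorCxQ E)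

/-- **`P ⊗^L E` is computed by `P ⊗ E` when `P` is K-flat** -/
noncomputable def ltensorObjIsoOfKFlat [DCoh.HasLTensorCx E] (P : CochainComplex X.Modules ℤ)
    (hP : DCoh.IsKFlat P) :
    (DCoh.LTensorCx E).obj (DerivedCategory.Q.obj P) ≅
      DerivedCategory.Q.obj ((DCoh.tensorCx.obj P).obj E) :=
  haveI : IsIso (((DCoh.tensorCxQ E).totalLeftDerivedCounit DerivedCategory.Q
      (HomologicalComplex.quasiIso X.Modules (ComplexShape.up ℤ))).app P) :=
    isIso_counit_app (adaptedQ_tensorCxQ E) (DCoh.LTensorCx E) _ P hP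
  asIso (((DCoh.tensorCxQ E).totalLeftDerivedCounit DerivedCategory.Q
      (HomologicalComplex.quasiIso X.Modules (ComplexShape.up ℤ))).app P)

/-- every object `K ⊗^L E` is of the form `Q (P ⊗ E)` with `P` K-flat representing `K` -/
theorem exists_ltensor_iso [DCoh.HasLTensorCx E] (K : DCoh.D X) :
    ∃ (P : CochainComplex X.Modules ℤ), DCoh.IsKFlat P ∧
      Nonempty (DerivedCategory.Q.obj P ≅ K) ∧
      Nonempty ((DCoh.LTensorCx E).obj K ≅ DerivedCategory.Q.obj ((DCoh.tensorCx.obj P).obj E)) := by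
  let K₀ : CochainComplex X.Modules ℤ := DerivedCategory.Q.objPreimage K
  let e : DerivedCategory.Q.obj K₀ ≅ K := DerivedCategory.Q.objObjPreimageIso K
  obtain ⟨P, p, h1, _, h3, _⟩ :=
    Groth.Agent.Lib.Helper5.KFlatSiteQ.exists_isKFlat_resolution (O := X.sheaf) K₀
  have : QuasiIso p := h3
  let e' : DerivedCategory.Q.obj P ≅ K := asIso (DerivedCategory.Q.map p) ≪≫ e
  exact ⟨P, h1, ⟨e'⟩, ⟨(DCoh.LTensorCx E).mapIso e'.symm ≪≫ ltensorObjIsoOfKFlat E P h1⟩⟩

end Groth.Agent.Lib.Helper5.LTenAll
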