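import Mathlib
import Groth.Prelude.Def_DCoh4
import Groth.Agent.Lib.Helper5.LTen.DerInv
import Groth.Agent.Lib.Helper5.Perf.PerfTri
import Groth.Agent.Lib.Helper5.StalkTen.KFlatPull

/-!
# The derived tensor product of perfect objects is perfect
-/
set_option autoImplicit false
set_option linter.unusedSectionVars false
set_option linter.unusedVariables false
universe u
open CategoryTheory CategoryTheory.Limits AlgebraicGeometry
open Groth.Agent.Lib.Helper5.StalkAdj Groth.Agent.Lib.Helper5.PerfTri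
  Groth.Agent.Lib.Helper5.LTenDer Groth.Agent.Lib.Helper5.RestrTen
  Groth.Agent.Lib.Helper5.LocNull
attribute [local instance] HasDerivedCategory.standard

namespace Groth.Agent.Lib.Helper5.PerfTensor

variable {X : Scheme.{u}}

lemma isKFlat_of_iso {K K' : CochainComplex X.Modules ℤ} (e : K ≅ K') (h : DCoh.IsKFlat K) :
    DCoh.IsKFlat K' :=
  Groth.Agent.Lib.Helper5.Misc.KFlatSite.isKFlat_of_iso X.sheaf e h

/-- the restriction of a K-flat complex to an open subscheme is K-flat -/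
theorem isKFlat_restrict {U : Scheme.{u}} (j : U ⟶ X) [IsOpenImmersion j]
    (L : CochainComplex X.Modules ℤ) (hL : DCoh.IsKFlat L) : DCoh.IsKFlat ((RCx j).obj L) :=
  isKFlat_of_iso ((NatIso.mapHomologicalComplex (Scheme.Modules.restrictFunctorIsoPullback j)
    (ComplexShape.up ℤ)).app L).symm
    (Groth.Agent.Lib.Helper5.KFlatPull.isKFlat_pullback j L hL)

/-- **the tensor product of a perfect complex with a K-flat perfect complex is perfect** -/
theorem isPerfect_Q_tensor (K₀ L : CochainComplex X.Modules ℤ) (hL : DCoh.IsKFlat L)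
    (hKp : DCoh.IsPerfect (DerivedCategory.Q.obj K₀))
    (hLp : DCoh.IsPerfect (DerivedCategory.Q.obj L)) :
    DCoh.IsPerfect (DerivedCategory.Q.obj ((DCoh.tensorCx.obj K₀).obj L)) := by
  apply isPerfect_of_LPD
  intro x
  obtain ⟨V₁, hx₁, hV₁⟩ := exists_LPD_of_isPerfect hKp x
  obtain ⟨V₂, hx₂, hV₂⟩ := exists_LPD_of_isPerfect hLp x
  let V : X.Opens := V₁ ⊓ V₂
  have hxV : x ∈ V := ⟨hx₁, hx₂⟩
  have k₁ : LPD V.ι (DerivedCategory.Q.obj K₀) :=
    LPD_congr (X.homOfLE_ι (inf_le_left : V ≤ V₁))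
      (LPD_comp (X.homOfLE (inf_le_left : V ≤ V₁)) V₁.ι hV₁)
  have k₂ : LPD V.ι (DerivedCategory.Q.obj L) :=
    LPD_congr (X.homOfLE_ι (inf_le_right : V ≤ V₂))
      (LPD_comp (X.homOfLE (inf_le_right : V ≤ V₂)) V₂.ι hV₂)
  refine ⟨V, V.ι, inferInstance, by simpa using hxV, ?_⟩
  obtain ⟨P, hP, ⟨eP⟩⟩ := k₁
  obtain ⟨P', hP', ⟨eP'⟩⟩ := k₂
  refine ⟨(DCoh.tensorCx.obj P).obj P',
    Groth.Agent.Lib.Helper5.SPTensor.isStrictlyPerfect_tensor P P' hP hP', ⟨?_⟩⟩
  let Φ := (Scheme.Modules.restrictFunctor V.ι).mapDerivedCategoryFactors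
  have iso1 : DerivedCategory.Q.obj ((RCx V.ι).obj K₀) ≅ DerivedCategory.Q.obj P :=
    (Φ.app K₀).symm ≪≫ eP
  have iso2 : DerivedCategory.Q.obj ((RCx V.ι).obj L) ≅ DerivedCategory.Q.obj P' :=
    (Φ.app L).symm ≪≫ eP'
  have hLV : DCoh.IsKFlat ((RCx V.ι).obj L) := isKFlat_restrict V.ι L hL
  have hPK : DCoh.IsKFlat P := isKFlat_of_isStrictlyPerfect P hP
  exact Φ.app _ ≪≫ DerivedCategory.Q.mapIso (restrictTotIso V.ι K₀ L) ≪≫
    mapQIso ((DCoh.tensorCx (X := (V : Scheme.{u}))).flip.obj ((RCx V.ι).obj L))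
      (fun φ hφ => quasiIso_tensor_flip _ hLV φ hφ) iso1 ≪≫
    mapQIso ((DCoh.tensorCx (X := (V : Scheme.{u}))).obj P)
      (fun φ hφ => quasiIso_tensor_obj P hPK φ hφ) iso2

/-- **S0962** -/
theorem isPerfect_LTensor (L : CochainComplex X.Modules ℤ) (hL : DCoh.IsKFlat L)
    (hLp : DCoh.IsPerfect (DerivedCategory.Q.obj L)) [DCoh.HasLTensorCx L] (K : DCoh.D X)
    (hK : DCoh.IsPerfect K) : DCoh.IsPerfect ((DCoh.LTensorCx L).obj K) := by
  let K₀ : CochainComplex X.Modules ℤ := DerivedCategory.Q.objPreimage K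
  let e : DerivedCategory.Q.obj K₀ ≅ K := DerivedCategory.Q.objObjPreimageIso K
  have h1 : DCoh.IsPerfect (DerivedCategory.Q.obj K₀) := isPerfect_of_iso e.symm hK
  have h2 := isPerfect_Q_tensor K₀ L hL h1 hLp
  exact isPerfect_of_iso ((ltensorObjIso L hL K₀).symm ≪≫ (DCoh.LTensorCx L).mapIso e) h2

end Groth.Agent.Lib.Helper5.PerfTensor
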