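import Mathlib
import Groth.Agent.Lib.Helper5.Misc.TensorSheaf

/-!
# The associativity isomorphism of the tensor product of sheaves of modules on a ringed site,
natural in the three variables (helper5)
-/
set_option autoImplicit false
set_option linter.unusedSectionVars false
set_option linter.unusedVariables false
set_option linter.style.haveILetI false
universe u
open CategoryTheory CategoryTheory.Limits MonoidalCategory Opposite

namespace Groth.Agent.Lib.Helper5.TenAssoc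

open Groth.Agent.Lib.Helper5.TensorSheaf

variable {C : Type u} [SmallCategory C] {J : GrothendieckTopology C} (O : Sheaf J CommRingCat.{u})

/-- abbreviation for the tensor bifunctor -/
noncomputable abbrev T : ModSite.Mod O ⥤ ModSite.Mod O ⥤ ModSite.Mod O := ModSite.tensorBi O

variable {O}

lemma T_obj_obj (M N : ModSite.Mod O) :
    ((T O).obj M).obj N = (shf O).obj ((fgt O).obj M ⊗ (fgt O).obj N) := rfl

lemma T_map_app {M M' : ModSite.Mod O} (f : M ⟶ M') (N : ModSite.Mod O) :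
    ((T O).map f).app N = (shf O).map ((fgt O).map f ▷ (fgt O).obj N) := rfl

lemma T_obj_map (M : ModSite.Mod O) {N N' : ModSite.Mod O} (g : N ⟶ N') :
    ((T O).obj M).map g = (shf O).map ((fgt O).obj M ◁ (fgt O).map g) := rfl

/-- the unit of sheafification at `X` -/
noncomputable abbrev un (X : PM O) : X ⟶ (fgt O).obj ((shf O).obj X) := (unit' O).app X

lemma un_naturality {X Y : PM O} (h : X ⟶ Y) :
    h ≫ un Y = un X ≫ (fgt O).map ((shf O).map h) :=
  (unit' O).naturality h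

lemma shf_sq {X Y Z W : PM O} (a : X ⟶ Y) (b : Y ⟶ W) (c : X ⟶ Z) (d : Z ⟶ W)
    (h : a ≫ b = c ≫ d) :
    (shf O).map a ≫ (shf O).map b = (shf O).map c ≫ (shf O).map d := by
  rw [← Functor.map_comp, ← Functor.map_comp, h]

/-- `shf ((fM ⊗ fN) ⊗ fP) ⟶ (M ⊗ N) ⊗ P` -/
noncomputable def a₁ (M N P : ModSite.Mod O) :
    (shf O).obj (((fgt O).obj M ⊗ (fgt O).obj N) ⊗ (fgt O).obj P) ⟶
      ((T O).obj (((T O).obj M).obj N)).obj P :=
  (shf O).map (un ((fgt O).obj M ⊗ (fgt O).obj N) ▷ (fgt O).obj P)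

instance (M N P : ModSite.Mod O) : IsIso (a₁ M N P) :=
  isIso_shf_map_of_W _
    (Groth.Agent.Lib.Helper5.TensorLocal.W_whiskerRight J _ _ (W_unit' _))

/-- `shf (fM ⊗ (fN ⊗ fP)) ⟶ M ⊗ (N ⊗ P)` -/
noncomputable def a₂ (M N P : ModSite.Mod O) :
    (shf O).obj ((fgt O).obj M ⊗ ((fgt O).obj N ⊗ (fgt O).obj P)) ⟶
      ((T O).obj M).obj (((T O).obj N).obj P) :=
  (shf O).map ((fgt O).obj M ◁ un ((fgt O).obj N ⊗ (fgt O).obj P))

instance (M N P : ModSite.Mod O) : IsIso (a₂ M N P) :=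
  isIso_shf_map_of_W _
    (Groth.Agent.Lib.Helper5.TensorLocal.W_whiskerLeft J _ _ (W_unit' _))

/-- the associator on objects -/
noncomputable def assocObj (M N P : ModSite.Mod O) :
    ((T O).obj (((T O).obj M).obj N)).obj P ≅ ((T O).obj M).obj (((T O).obj N).obj P) :=
  (asIso (a₁ M N P)).symm ≪≫
    (shf O).mapIso (α_ ((fgt O).obj M) ((fgt O).obj N) ((fgt O).obj P)) ≪≫ asIso (a₂ M N P)

@[reassoc]
lemma a₁_assocObj_hom (M N P : ModSite.Mod O) :
    a₁ M N P ≫ (assocObj M N P).hom =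
      (shf O).map (α_ ((fgt O).obj M) ((fgt O).obj N) ((fgt O).obj P)).hom ≫ a₂ M N P := by
  simp [assocObj]

/-! naturality of `a₁` -/

@[reassoc]
lemma a₁_nat₁ {M M' : ModSite.Mod O} (f : M ⟶ M') (N P : ModSite.Mod O) :
    a₁ M N P ≫ ((T O).map (((T O).map f).app N)).app P =
      (shf O).map (((fgt O).map f ▷ (fgt O).obj N) ▷ (fgt O).obj P) ≫ a₁ M' N P := by
  exact shf_sq (un ((fgt O).obj M ⊗ (fgt O).obj N) ▷ (fgt O).obj P)
    ((fgt O).map ((shf O).map ((fgt O).map f ▷ (fgt O).obj N)) ▷ (fgt O).obj P)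
    (((fgt O).map f ▷ (fgt O).obj N) ▷ (fgt O).obj P)
    (un ((fgt O).obj M' ⊗ (fgt O).obj N) ▷ (fgt O).obj P)
    (by rw [← comp_whiskerRight, ← comp_whiskerRight, un_naturality])

@[reassoc]
lemma a₁_nat₂ (M : ModSite.Mod O) {N N' : ModSite.Mod O} (g : N ⟶ N') (P : ModSite.Mod O) :
    a₁ M N P ≫ ((T O).map (((T O).obj M).map g)).app P =
      (shf O).map (((fgt O).obj M ◁ (fgt O).map g) ▷ (fgt O).obj P) ≫ a₁ M N' P := by
  exact shf_sq (un ((fgt O).obj M ⊗ (fgt O).obj N) ▷ (fgt O).obj P)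
    ((fgt O).map ((shf O).map ((fgt O).obj M ◁ (fgt O).map g)) ▷ (fgt O).obj P)
    (((fgt O).obj M ◁ (fgt O).map g) ▷ (fgt O).obj P)
    (un ((fgt O).obj M ⊗ (fgt O).obj N') ▷ (fgt O).obj P)
    (by rw [← comp_whiskerRight, ← comp_whiskerRight, un_naturality])

@[reassoc]
lemma a₁_nat₃ (M N : ModSite.Mod O) {P P' : ModSite.Mod O} (h : P ⟶ P') :
    a₁ M N P ≫ ((T O).obj (((T O).obj M).obj N)).map h =
      (shf O).map (((fgt O).obj M ⊗ (fgt O).obj N) ◁ (fgt O).map h) ≫ a₁ M N P' := by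
  exact shf_sq (un ((fgt O).obj M ⊗ (fgt O).obj N) ▷ (fgt O).obj P)
    ((fgt O).obj ((shf O).obj ((fgt O).obj M ⊗ (fgt O).obj N)) ◁ (fgt O).map h)
    (((fgt O).obj M ⊗ (fgt O).obj N) ◁ (fgt O).map h)
    (un ((fgt O).obj M ⊗ (fgt O).obj N) ▷ (fgt O).obj P')
    (by rw [whisker_exchange])

/-! naturality of `a₂` -/

@[reassoc]
lemma a₂_nat₁ {M M' : ModSite.Mod O} (f : M ⟶ M') (N P : ModSite.Mod O) :
    a₂ M N P ≫ ((T O).map f).app (((T O).obj N).obj P) =
      (shf O).map ((fgt O).map f ▷ ((fgt O).obj N ⊗ (fgt O).obj P)) ≫ a₂ M' N P := by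
  exact shf_sq ((fgt O).obj M ◁ un ((fgt O).obj N ⊗ (fgt O).obj P))
    ((fgt O).map f ▷ (fgt O).obj ((shf O).obj ((fgt O).obj N ⊗ (fgt O).obj P)))
    ((fgt O).map f ▷ ((fgt O).obj N ⊗ (fgt O).obj P))
    ((fgt O).obj M' ◁ un ((fgt O).obj N ⊗ (fgt O).obj P))
    (by rw [← whisker_exchange])

@[reassoc]
lemma a₂_nat₂ (M : ModSite.Mod O) {N N' : ModSite.Mod O} (g : N ⟶ N') (P : ModSite.Mod O) :
    a₂ M N P ≫ ((T O).obj M).map (((T O).map g).app P) =
      (shf O).map ((fgt O).obj M ◁ ((fgt O).map g ▷ (fgt O).obj P)) ≫ a₂ M N' P := by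
  exact shf_sq ((fgt O).obj M ◁ un ((fgt O).obj N ⊗ (fgt O).obj P))
    ((fgt O).obj M ◁ (fgt O).map ((shf O).map ((fgt O).map g ▷ (fgt O).obj P)))
    ((fgt O).obj M ◁ ((fgt O).map g ▷ (fgt O).obj P))
    ((fgt O).obj M ◁ un ((fgt O).obj N' ⊗ (fgt O).obj P))
    (by rw [← MonoidalCategory.whiskerLeft_comp, ← MonoidalCategory.whiskerLeft_comp,
      un_naturality])

@[reassoc]
lemma a₂_nat₃ (M N : ModSite.Mod O) {P P' : ModSite.Mod O} (h : P ⟶ P') :
    a₂ M N P ≫ ((T O).obj M).map (((T O).obj N).map h) =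
      (shf O).map ((fgt O).obj M ◁ ((fgt O).obj N ◁ (fgt O).map h)) ≫ a₂ M N P' := by
  exact shf_sq ((fgt O).obj M ◁ un ((fgt O).obj N ⊗ (fgt O).obj P))
    ((fgt O).obj M ◁ (fgt O).map ((shf O).map ((fgt O).obj N ◁ (fgt O).map h)))
    ((fgt O).obj M ◁ ((fgt O).obj N ◁ (fgt O).map h))
    ((fgt O).obj M ◁ un ((fgt O).obj N ⊗ (fgt O).obj P'))
    (by rw [← MonoidalCategory.whiskerLeft_comp, ← MonoidalCategory.whiskerLeft_comp,
      un_naturality])

/-! naturality of the associator -/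

lemma assocObj_nat₁ {M M' : ModSite.Mod O} (f : M ⟶ M') (N P : ModSite.Mod O) :
    ((T O).map (((T O).map f).app N)).app P ≫ (assocObj M' N P).hom =
      (assocObj M N P).hom ≫ ((T O).map f).app (((T O).obj N).obj P) := by
  rw [← cancel_epi (a₁ M N P), a₁_nat₁_assoc, a₁_assocObj_hom, a₁_assocObj_hom_assoc, a₂_nat₁,
    ← Functor.map_comp_assoc, ← Functor.map_comp_assoc, associator_naturality_left]

lemma assocObj_nat₂ (M : ModSite.Mod O) {N N' : ModSite.Mod O} (g : N ⟶ N') (P : ModSite.Mod O) :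
    ((T O).map (((T O).obj M).map g)).app P ≫ (assocObj M N' P).hom =
      (assocObj M N P).hom ≫ ((T O).obj M).map (((T O).map g).app P) := by
  rw [← cancel_epi (a₁ M N P), a₁_nat₂_assoc, a₁_assocObj_hom, a₁_assocObj_hom_assoc, a₂_nat₂,
    ← Functor.map_comp_assoc, ← Functor.map_comp_assoc, associator_naturality_middle]

lemma assocObj_nat₃ (M N : ModSite.Mod O) {P P' : ModSite.Mod O} (h : P ⟶ P') :
    ((T O).obj (((T O).obj M).obj N)).map h ≫ (assocObj M N P').hom =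
      (assocObj M N P).hom ≫ ((T O).obj M).map (((T O).obj N).map h) := by
  rw [← cancel_epi (a₁ M N P), a₁_nat₃_assoc, a₁_assocObj_hom, a₁_assocObj_hom_assoc, a₂_nat₃,
    ← Functor.map_comp_assoc, ← Functor.map_comp_assoc, associator_naturality_right]

variable (O)

/-- the associator of the tensor product of sheaves of modules, as an isomorphism of trifunctors -/
noncomputable def assoc :
    bifunctorComp₁₂ (T O) (T O) ≅ bifunctorComp₂₃ (T O) (T O) :=
  NatIso.ofComponents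
    (fun M => NatIso.ofComponents
      (fun N => NatIso.ofComponents (fun P => assocObj M N P)
        (fun {P P'} h => assocObj_nat₃ M N h))
      (fun {N N'} g => by
        refine NatTrans.ext (funext fun P => ?_)
        exact assocObj_nat₂ M g P))
    (fun {M M'} f => by
      refine NatTrans.ext (funext fun N => NatTrans.ext (funext fun P => ?_))
      exact assocObj_nat₁ f N P)

variable {O}

@[simp]
lemma assoc_hom_app_app_app (M N P : ModSite.Mod O) :
    (((assoc O).hom.app M).app N).app P = (assocObj M N P).hom := rfl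

end Groth.Agent.Lib.Helper5.TenAssoc
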