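import Mathlib
import Groth.Prelude.Def_ModSite
import Groth.Agent.Lib.Helper5.LTen.Assoc1
import Groth.Agent.Lib.Helper5.KFlatSite2.Symm
import Groth.Agent.Lib.Helper5.KFlatSite2.TensorUnit

/-!
# Invertible modules on a ringed site: tensor products and duals (helper5)
-/
set_option autoImplicit false
set_option linter.unusedSectionVars false
set_option linter.unusedVariables false
set_option linter.style.haveILetI false
universe u
open CategoryTheory CategoryTheory.Limits MonoidalCategory Opposite

namespace Groth.Agent.Lib.Helper5.InvMod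

open Groth.Agent.Lib.Helper5.TensorSheaf Groth.Agent.Lib.Helper5.TenAssoc

variable {C : Type u} [SmallCategory C] {J : GrothendieckTopology C} (O : Sheaf J CommRingCat.{u})

/-- `(L ⊗ N) ⊗ - ≅ L ⊗ (N ⊗ -)` -/
noncomputable def assocR (L N : ModSite.Mod O) :
    (T O).obj (((T O).obj L).obj N) ≅ (T O).obj N ⋙ (T O).obj L :=
  NatIso.ofComponents (fun P => assocObj L N P) (fun {P P'} h => assocObj_nat₃ L N h)

/-- `O ⊗ - ≅ id` -/
noncomputable def lunit : (T O).obj (ModSite.unit O) ≅ 𝟭 _ :=
  ((Groth.Agent.Lib.Helper5.KFlatSiteQ.flipIso O).app (ModSite.unit O)).symm ≪≫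
    Groth.Agent.Lib.Helper5.TensorUnit.unitIso O

/-- `L ⊗ N ≅ N ⊗ L` -/
noncomputable def symmObj (L N : ModSite.Mod O) :
    ((T O).obj L).obj N ≅ ((T O).obj N).obj L :=
  ((Groth.Agent.Lib.Helper5.KFlatSiteQ.flipIso O).app N).app L

theorem isEquivalence_tensor (L N : ModSite.Mod O) (hL : ((T O).obj L).IsEquivalence)
    (hN : ((T O).obj N).IsEquivalence) :
    ((T O).obj (((T O).obj L).obj N)).IsEquivalence :=
  Functor.isEquivalence_of_iso (assocR O L N).symm

theorem dual (L : ModSite.Mod O) (hL : ((T O).obj L).IsEquivalence) [ModSite.HasSheafHom L] :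
    ((T O).obj ((ModSite.sheafHom L).obj (ModSite.unit O))).IsEquivalence ∧
      IsIso ((ModSite.sheafHomAdj L).counit.app (ModSite.unit O)) := by
  haveI : ((T O).flip.obj L).IsEquivalence :=
    Functor.isEquivalence_of_iso ((Groth.Agent.Lib.Helper5.KFlatSiteQ.flipIso O).app L).symm
  haveI : (ModSite.sheafHom L).IsEquivalence :=
    (ModSite.sheafHomAdj L).isEquivalence_right_of_isEquivalence_left
  haveI : IsIso (ModSite.sheafHomAdj L).counit := inferInstance
  have h3 : IsIso ((ModSite.sheafHomAdj L).counit.app (ModSite.unit O)) := inferInstance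
  refine ⟨?_, h3⟩
  let L' := (ModSite.sheafHom L).obj (ModSite.unit O)
  let ε : ((T O).obj L').obj L ≅ ModSite.unit O :=
    asIso ((ModSite.sheafHomAdj L).counit.app (ModSite.unit O))
  let e : (T O).obj L' ⋙ (T O).obj L ≅ 𝟭 _ :=
    (assocR O L L').symm ≪≫ (T O).mapIso (symmObj O L L' ≪≫ ε) ≪≫ lunit O
  haveI : ((T O).obj L' ⋙ (T O).obj L).IsEquivalence := Functor.isEquivalence_of_iso e.symm
  exact Functor.isEquivalence_of_comp_right ((T O).obj L') ((T O).obj L)

end Groth.Agent.Lib.Helper5.InvMod
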