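import Mathlib
import Groth.Prelude.Def_KFlatSite
import Groth.Agent.S9107
import Groth.Agent.S9085
import Groth.Agent.Lib.Helper5.Misc.KFlatSite
import Groth.Agent.Lib.Helper5.KFlatSite2.Qis
import Groth.Agent.Lib.Helper5.KFlatSite2.TorOne
import Groth.Agent.Lib.Helper5.LTen.Flf

/-!
# Flat amplitudes add under the derived tensor product (ringed sites) (helper5)
-/
set_option autoImplicit false
set_option linter.unusedSectionVars false
set_option linter.unusedVariables false
set_option linter.style.haveILetI false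
universe u
open CategoryTheory CategoryTheory.Limits
attribute [local instance] HasDerivedCategory.standard

namespace Groth.Agent.Lib.Helper5.FlatAmp

open Groth.Agent.Lib.Helper5.TensorSheaf

variable {C : Type u} [SmallCategory C] {J : GrothendieckTopology C} (O : Sheaf J CommRingCat.{u})

instance ab5 : AB5OfSize.{u, u} (ModSite.Mod O) := ⟨fun K _ _ => Groth.Agent.S9107.result O K⟩

lemma ab4 : AB4OfSize.{u} (ModSite.Mod O) := by
  haveI : HasFiniteBiproducts (ModSite.Mod O) := Abelian.hasFiniteBiproducts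
  exact AB4.of_AB5 _

/-- a coproduct of flat modules is flat -/
theorem isFlat_sigma {I : Type} (f : I → ModSite.Mod O) (hf : ∀ i, ModSite.IsFlat (f i)) :
    ModSite.IsFlat (∐ f) := by
  haveI := ab4 O
  haveI : HasExactColimitsOfShape (Discrete (ULift.{u} I)) (ModSite.Mod O) :=
    AB4OfSize.ofShape _
  have h1 : ModSite.IsFlat (∐ (f ∘ (Equiv.ulift : ULift.{u} I ≃ I))) :=
    isFlat_of_isColimit (Discrete (ULift.{u} I))
      (Discrete.functor (f ∘ (Equiv.ulift : ULift.{u} I ≃ I))) (fun k => hf _)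
      (colimit.cocone _) (colimit.isColimit _)
  exact Groth.Agent.Lib.Helper5.Pure.isFlat_of_iso (Sigma.reindex (Equiv.ulift : ULift.{u} I ≃ I) f) h1

/-- the terms of the tensor product of complexes of flat modules are flat -/
theorem isFlat_tensorCx_X (P F : CochainComplex (ModSite.Mod O) ℤ)
    (hP : ∀ i : ℤ, ModSite.IsFlat (P.X i)) (hF : ∀ i : ℤ, ModSite.IsFlat (F.X i)) (k : ℤ) :
    ModSite.IsFlat ((((ModSite.tensorCx O).obj P).obj F).X k) := by
  let f : ((ComplexShape.π (ComplexShape.up ℤ) (ComplexShape.up ℤ)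
      (ComplexShape.up ℤ)) ⁻¹' {k}) → ModSite.Mod O :=
    fun i => ((ModSite.tensorBi O).obj (P.X i.1.1)).obj (F.X i.1.2)
  change ModSite.IsFlat (∐ f)
  exact isFlat_sigma O f (fun i => Groth.Agent.S9085.result O _ _ (hP _) (hF _))

/-- vanishing of the terms of the tensor product -/
theorem isZero_tensorCx_X (P F : CochainComplex (ModSite.Mod O) ℤ) (m n m' n' : ℤ)
    (hPb : ∀ i : ℤ, i < m ∨ n < i → IsZero (P.X i))
    (hFb : ∀ i : ℤ, i < m' ∨ n' < i → IsZero (F.X i)) (k : ℤ) (hk : k < m + m' ∨ n + n' < k) :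
    IsZero ((((ModSite.tensorCx O).obj P).obj F).X k) := by
  let f : ((ComplexShape.π (ComplexShape.up ℤ) (ComplexShape.up ℤ)
      (ComplexShape.up ℤ)) ⁻¹' {k}) → ModSite.Mod O :=
    fun i => ((ModSite.tensorBi O).obj (P.X i.1.1)).obj (F.X i.1.2)
  change IsZero (∐ f)
  apply Groth.Agent.Lib.Helper5.LTenFlf.isZero_sigma
  intro i
  have hi : i.1.1 + i.1.2 = k := i.2
  by_cases h1 : i.1.1 < m ∨ n < i.1.1
  · exact Functor.map_isZero ((ModSite.tensorBi O).flip.obj (F.X i.1.2)) (hPb _ h1)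
  · apply Functor.map_isZero ((ModSite.tensorBi O).obj (P.X i.1.1))
    apply hFb
    omega

lemma inverts_tensorCxQ (L : CochainComplex (ModSite.Mod O) ℤ) (hL : ModSite.IsKFlat L) :
    (HomologicalComplex.quasiIso (ModSite.Mod O) (ComplexShape.up ℤ)).IsInvertedBy
      (ModSite.tensorCxQ L) := fun E E' φ hφ => by
  have h1 := Groth.Agent.Lib.Helper5.KFlatSiteQ.quasiIso_tensor_right (O := O) hL φ
    ((HomologicalComplex.mem_quasiIso_iff φ).1 hφ)
  exact Localization.inverts DerivedCategory.Q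
    (HomologicalComplex.quasiIso (ModSite.Mod O) (ComplexShape.up ℤ)) _
    ((HomologicalComplex.mem_quasiIso_iff _).2 h1)

/-- `K ⊗^L L` is computed by `K ⊗ L` when `L` is K-flat -/
noncomputable def ltensorObjIso (L : CochainComplex (ModSite.Mod O) ℤ) (hL : ModSite.IsKFlat L)
    [ModSite.HasLTensorCx L] (K₀ : CochainComplex (ModSite.Mod O) ℤ) :
    (ModSite.LTensorCx L).obj (DerivedCategory.Q.obj K₀) ≅
      DerivedCategory.Q.obj (((ModSite.tensorCx O).obj K₀).obj L) :=
  haveI : IsIso ((ModSite.tensorCxQ L).totalLeftDerivedCounit DerivedCategory.Q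
      (HomologicalComplex.quasiIso (ModSite.Mod O) (ComplexShape.up ℤ))) :=
    Functor.isIso_of_isLeftDerivedFunctor_of_inverts (ModSite.LTensorCx L) _
      (inverts_tensorCxQ O L hL)
  (asIso ((ModSite.tensorCxQ L).totalLeftDerivedCounit DerivedCategory.Q
      (HomologicalComplex.quasiIso (ModSite.Mod O) (ComplexShape.up ℤ)))).app K₀

theorem flatAmp_ltensor (E P : CochainComplex (ModSite.Mod O) ℤ)
    (m n : ℤ) (hP : ∀ i : ℤ, ModSite.IsFlat (P.X i)) (hPb : ∀ i : ℤ, i < m ∨ n < i → IsZero (P.X i))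
    (eP : DerivedCategory.Q.obj P ≅ DerivedCategory.Q.obj E) (F : CochainComplex (ModSite.Mod O) ℤ)
    (m' n' : ℤ) (hF : ∀ i : ℤ, ModSite.IsFlat (F.X i))
    (hFb : ∀ i : ℤ, i < m' ∨ n' < i → IsZero (F.X i))
    [ModSite.HasLTensorCx F] :
    ∃ G : CochainComplex (ModSite.Mod O) ℤ, (∀ i : ℤ, ModSite.IsFlat (G.X i)) ∧
      (∀ i : ℤ, i < m + m' ∨ n + n' < i → IsZero (G.X i)) ∧
      Nonempty (DerivedCategory.Q.obj G ≅ (ModSite.LTensorCx F).obj (DerivedCategory.Q.obj E)) := by
  have hFk : ModSite.IsKFlat F := by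
    haveI : F.IsStrictlyLE n' :=
      (CochainComplex.isStrictlyLE_iff F n').2 (fun i hi => hFb i (Or.inr hi))
    exact Groth.Agent.Lib.Helper5.Misc.KFlatSite.isKFlat_of_bounded_above (O := O) F n'
      inferInstance hF
  refine ⟨((ModSite.tensorCx O).obj P).obj F, isFlat_tensorCx_X O P F hP hF,
    isZero_tensorCx_X O P F m n m' n' hPb hFb, ⟨?_⟩⟩
  exact (ltensorObjIso O F hFk P).symm ≪≫ (ModSite.LTensorCx F).mapIso eP

end Groth.Agent.Lib.Helper5.FlatAmp
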