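import Mathlib

/-!
# Naturality in the first variable of `HomologicalComplex.mapBifunctorAssociator` (helper5)
-/
set_option autoImplicit false
set_option linter.unusedSectionVars false
set_option linter.unusedVariables false
open CategoryTheory Category Limits

namespace Groth.Agent.Lib.Helper5.AssocNat

open HomologicalComplex

variable {C₁ C₂ C₁₂ C₂₃ C₃ C₄ : Type*}
  [Category* C₁] [Category* C₂] [Category* C₃] [Category* C₄] [Category* C₁₂] [Category* C₂₃]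
  [HasZeroMorphisms C₁] [HasZeroMorphisms C₂] [HasZeroMorphisms C₃]
  [Preadditive C₁₂] [Preadditive C₂₃] [Preadditive C₄]
  {F₁₂ : C₁ ⥤ C₂ ⥤ C₁₂} {G : C₁₂ ⥤ C₃ ⥤ C₄}
  {F : C₁ ⥤ C₂₃ ⥤ C₄} {G₂₃ : C₂ ⥤ C₃ ⥤ C₂₃}
  [F₁₂.PreservesZeroMorphisms] [∀ (X₁ : C₁), (F₁₂.obj X₁).PreservesZeroMorphisms]
  [G.Additive] [∀ (X₁₂ : C₁₂), (G.obj X₁₂).PreservesZeroMorphisms]
  [G₂₃.PreservesZeroMorphisms] [∀ (X₂ : C₂), (G₂₃.obj X₂).PreservesZeroMorphisms]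
  [F.PreservesZeroMorphisms] [∀ (X₁ : C₁), (F.obj X₁).Additive]
  (associator : bifunctorComp₁₂ F₁₂ G ≅ bifunctorComp₂₃ F G₂₃)
  {ι₁ ι₂ ι₃ ι₁₂ ι₂₃ ι₄ : Type*} [DecidableEq ι₄]
  {c₁ : ComplexShape ι₁} {c₂ : ComplexShape ι₂} {c₃ : ComplexShape ι₃}
  (K₁ L₁ : HomologicalComplex C₁ c₁) (f : K₁ ⟶ L₁) (K₂ : HomologicalComplex C₂ c₂)
  (K₃ : HomologicalComplex C₃ c₃)
  (c₁₂ : ComplexShape ι₁₂) (c₂₃ : ComplexShape ι₂₃) (c₄ : ComplexShape ι₄)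
  [TotalComplexShape c₁ c₂ c₁₂] [TotalComplexShape c₁₂ c₃ c₄]
  [TotalComplexShape c₂ c₃ c₂₃] [TotalComplexShape c₁ c₂₃ c₄]
  [HasMapBifunctor K₁ K₂ F₁₂ c₁₂] [HasMapBifunctor L₁ K₂ F₁₂ c₁₂]
  [HasMapBifunctor K₂ K₃ G₂₃ c₂₃]
  [ComplexShape.Associative c₁ c₂ c₃ c₁₂ c₂₃ c₄]
  [DecidableEq ι₁₂] [DecidableEq ι₂₃]
  [HasMapBifunctor (mapBifunctor K₁ K₂ F₁₂ c₁₂) K₃ G c₄]
  [HasMapBifunctor (mapBifunctor L₁ K₂ F₁₂ c₁₂) K₃ G c₄]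
  [HasMapBifunctor K₁ (mapBifunctor K₂ K₃ G₂₃ c₂₃) F c₄]
  [HasMapBifunctor L₁ (mapBifunctor K₂ K₃ G₂₃ c₂₃) F c₄]

@[reassoc]
lemma ι₁₂_map (i₁ : ι₁) (i₂ : ι₂) (i₃ : ι₃) (j : ι₄)
    (h : ComplexShape.r c₁ c₂ c₃ c₁₂ c₄ (i₁, i₂, i₃) = j) :
    mapBifunctor₁₂.ι F₁₂ G K₁ K₂ K₃ c₁₂ c₄ i₁ i₂ i₃ j h ≫
      (mapBifunctorMap (mapBifunctorMap f (𝟙 K₂) F₁₂ c₁₂) (𝟙 K₃) G c₄).f j =
    (G.map ((F₁₂.map (f.f i₁)).app (K₂.X i₂))).app (K₃.X i₃) ≫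
      mapBifunctor₁₂.ι F₁₂ G L₁ K₂ K₃ c₁₂ c₄ i₁ i₂ i₃ j h := by
  have h' : ComplexShape.π c₁₂ c₃ c₄ (ComplexShape.π c₁ c₂ c₁₂ (i₁, i₂), i₃) = j := h
  rw [mapBifunctor₁₂.ι_eq F₁₂ G K₁ K₂ K₃ c₁₂ c₄ i₁ i₂ i₃ _ j rfl h',
    mapBifunctor₁₂.ι_eq F₁₂ G L₁ K₂ K₃ c₁₂ c₄ i₁ i₂ i₃ _ j rfl h', assoc, ι_mapBifunctorMap]
  dsimp
  rw [CategoryTheory.Functor.map_id, id_comp, ← NatTrans.comp_app_assoc, ← Functor.map_comp,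
    ι_mapBifunctorMap, ← NatTrans.comp_app_assoc, ← Functor.map_comp]
  dsimp
  rw [CategoryTheory.Functor.map_id, id_comp]

@[reassoc]
lemma ι₂₃_map (i₁ : ι₁) (i₂ : ι₂) (i₃ : ι₃) (j : ι₄)
    (h : ComplexShape.r c₁ c₂ c₃ c₁₂ c₄ (i₁, i₂, i₃) = j) :
    mapBifunctor₂₃.ι F G₂₃ K₁ K₂ K₃ c₁₂ c₂₃ c₄ i₁ i₂ i₃ j h ≫
      (mapBifunctorMap f (𝟙 (mapBifunctor K₂ K₃ G₂₃ c₂₃)) F c₄).f j =
    (F.map (f.f i₁)).app ((G₂₃.obj (K₂.X i₂)).obj (K₃.X i₃)) ≫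
      mapBifunctor₂₃.ι F G₂₃ L₁ K₂ K₃ c₁₂ c₂₃ c₄ i₁ i₂ i₃ j h := by
  have h' : ComplexShape.π c₁ c₂₃ c₄ (i₁, ComplexShape.π c₂ c₃ c₂₃ (i₂, i₃)) = j := by
    rw [← h, ← ComplexShape.assoc c₁ c₂ c₃ c₁₂ c₂₃ c₄]; rfl
  rw [mapBifunctor₂₃.ι_eq F G₂₃ K₁ K₂ K₃ c₁₂ c₂₃ c₄ i₁ i₂ i₃ _ j rfl h',
    mapBifunctor₂₃.ι_eq F G₂₃ L₁ K₂ K₃ c₁₂ c₂₃ c₄ i₁ i₂ i₃ _ j rfl h', assoc, ι_mapBifunctorMap]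
  dsimp
  rw [CategoryTheory.Functor.map_id, id_comp, NatTrans.naturality_assoc]

variable [HasGoodTrifunctor₁₂Obj F₁₂ G K₁ K₂ K₃ c₁₂ c₄]
  [HasGoodTrifunctor₂₃Obj F G₂₃ K₁ K₂ K₃ c₁₂ c₂₃ c₄]
  [HasGoodTrifunctor₁₂Obj F₁₂ G L₁ K₂ K₃ c₁₂ c₄]
  [HasGoodTrifunctor₂₃Obj F G₂₃ L₁ K₂ K₃ c₁₂ c₂₃ c₄]

/-- naturality of the associator in the first variable -/
theorem mapBifunctorAssociator_naturality₁ :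
    mapBifunctorMap (mapBifunctorMap f (𝟙 K₂) F₁₂ c₁₂) (𝟙 K₃) G c₄ ≫
      (mapBifunctorAssociator associator L₁ K₂ K₃ c₁₂ c₂₃ c₄).hom =
    (mapBifunctorAssociator associator K₁ K₂ K₃ c₁₂ c₂₃ c₄).hom ≫
      mapBifunctorMap f (𝟙 (mapBifunctor K₂ K₃ G₂₃ c₂₃)) F c₄ := by
  ext j : 1
  apply mapBifunctor₁₂.hom_ext
  intro i₁ i₂ i₃ h
  dsimp [mapBifunctorAssociator]
  simp only [HomologicalComplex.Hom.isoOfComponents_hom_f]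
  rw [ι₁₂_map_assoc, ι_mapBifunctorAssociatorX_hom, ι_mapBifunctorAssociatorX_hom_assoc]
  erw [ι₂₃_map]
  have := NatTrans.naturality_app_app associator.hom (f.f i₁) (K₂.X i₂) (K₃.X i₃)
  exact (reassoc_of% this) _

end Groth.Agent.Lib.Helper5.AssocNat
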