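import Mathlib
import Groth.Prelude.Def_KFlatSite
import Groth.Agent.Lib.Helper5.LTen.Assoc1
import Groth.Agent.Lib.Helper5.LTen.Assoc2

/-!
# The associativity isomorphism of the tensor product of complexes of modules on a ringed site,
natural in the first variable (helper5)
-/
set_option autoImplicit false
set_option linter.unusedSectionVars false
set_option linter.unusedVariables false
set_option linter.style.haveILetI false
universe u
open CategoryTheory CategoryTheory.Limits MonoidalCategory Opposite

namespace Groth.Agent.Lib.Helper5.TenAssoc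

open Groth.Agent.Lib.Helper5.TensorSheaf

variable {C : Type u} [SmallCategory C] {J : GrothendieckTopology C} (O : Sheaf J CommRingCat.{u})

instance preservesColimitsOfShape_discrete_T_obj (I : Type) (N : ModSite.Mod O) :
    PreservesColimitsOfShape (Discrete I) ((T O).obj N) := by
  haveI : PreservesColimitsOfSize.{u, u} ((ModSite.tensorBi O).obj N) := inferInstance
  exact preservesColimitsOfShape_of_equiv
    (Discrete.equivalence (Equiv.ulift : ULift.{u} I ≃ I)) _

instance preservesColimitsOfShape_discrete_T_flip_obj (I : Type) (N : ModSite.Mod O) :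
    PreservesColimitsOfShape (Discrete I) ((T O).flip.obj N) := by
  haveI : PreservesColimitsOfSize.{u, u} ((ModSite.tensorBi O).flip.obj N) := inferInstance
  exact preservesColimitsOfShape_of_equiv
    (Discrete.equivalence (Equiv.ulift : ULift.{u} I ≃ I)) _

variable (K₁ L₁ K₂ K₃ : CochainComplex (ModSite.Mod O) ℤ)

instance hasGood₁₂ : HomologicalComplex.HasGoodTrifunctor₁₂Obj (T O) (T O) K₁ K₂ K₃
    (ComplexShape.up ℤ) (ComplexShape.up ℤ) :=
  fun _ _ => inferInstance

instance hasGood₂₃ : HomologicalComplex.HasGoodTrifunctor₂₃Obj (T O) (T O) K₁ K₂ K₃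
    (ComplexShape.up ℤ) (ComplexShape.up ℤ) (ComplexShape.up ℤ) :=
  fun _ _ => inferInstance

/-- the associator of the tensor product of complexes -/
noncomputable def assocCx :
    ((ModSite.tensorCx O).obj (((ModSite.tensorCx O).obj K₁).obj K₂)).obj K₃ ≅
      ((ModSite.tensorCx O).obj K₁).obj (((ModSite.tensorCx O).obj K₂).obj K₃) :=
  HomologicalComplex.mapBifunctorAssociator (assoc O) K₁ K₂ K₃
    (ComplexShape.up ℤ) (ComplexShape.up ℤ) (ComplexShape.up ℤ)

variable {K₁ L₁}

lemma assocCx_naturality₁ (f : K₁ ⟶ L₁) :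
    ((ModSite.tensorCx O).map (((ModSite.tensorCx O).map f).app K₂)).app K₃ ≫
        (assocCx O L₁ K₂ K₃).hom =
      (assocCx O K₁ K₂ K₃).hom ≫
        ((ModSite.tensorCx O).map f).app (((ModSite.tensorCx O).obj K₂).obj K₃) :=
  Groth.Agent.Lib.Helper5.AssocNat.mapBifunctorAssociator_naturality₁ (assoc O) K₁ L₁ f K₂ K₃
    (ComplexShape.up ℤ) (ComplexShape.up ℤ) (ComplexShape.up ℤ)

/-- the associator as an isomorphism of functors in the first variable -/
noncomputable def assocNat :
    (ModSite.tensorCx O).flip.obj K₂ ⋙ (ModSite.tensorCx O).flip.obj K₃ ≅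
      (ModSite.tensorCx O).flip.obj (((ModSite.tensorCx O).obj K₂).obj K₃) :=
  NatIso.ofComponents (fun K₁ => assocCx O K₁ K₂ K₃)
    (fun {K₁ L₁} f => assocCx_naturality₁ O K₂ K₃ f)

end Groth.Agent.Lib.Helper5.TenAssoc
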