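import Mathlib
import Groth.Prelude.Def_DCoh4
import Groth.Agent.Lib.Helper5.LTen.Assoc3
import Groth.Agent.Lib.Helper5.LTen.LTenAll
import Groth.Agent.Lib.Helper5.LTen.DerInv

/-!
# Associativity of the derived tensor product: `(- ⊗^L K) ⊗^L L ≅ - ⊗^L (K ⊗ L)` for `L` K-flat
(helper5)
-/
set_option autoImplicit false
set_option linter.unusedSectionVars false
set_option linter.unusedVariables false
set_option linter.style.haveILetI false
universe u
open CategoryTheory CategoryTheory.Limits AlgebraicGeometry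
open Groth.Agent.Lib.Helper5.DerQ
attribute [local instance] HasDerivedCategory.standard

namespace Groth.Agent.Lib.Helper5.AssocD

variable {X : Scheme.{u}} (K L : CochainComplex X.Modules ℤ)

/-- the associator of complexes, natural in the first variable -/
noncomputable def assocNat :
    (DCoh.tensorCx (X := X)).flip.obj K ⋙ (DCoh.tensorCx (X := X)).flip.obj L ≅
      (DCoh.tensorCx (X := X)).flip.obj ((DCoh.tensorCx.obj K).obj L) :=
  Groth.Agent.Lib.Helper5.TenAssoc.assocNat X.sheaf K L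

/-- the counit of the derived tensor product -/
noncomputable abbrev ε (E : CochainComplex X.Modules ℤ) [DCoh.HasLTensorCx E] :
    DerivedCategory.Q ⋙ DCoh.LTensorCx E ⟶ DCoh.tensorCxQ E :=
  (DCoh.tensorCxQ E).totalLeftDerivedCounit DerivedCategory.Q
    (HomologicalComplex.quasiIso X.Modules (ComplexShape.up ℤ))

variable [DCoh.HasLTensorCx K] [DCoh.HasLTensorCx L]
  [DCoh.HasLTensorCx ((DCoh.tensorCx.obj K).obj L)]

/-- the comparison `Q ⋙ (- ⊗^L K) ⊗^L L ⟶ Q(- ⊗ (K ⊗ L))` -/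
noncomputable def β :
    DerivedCategory.Q ⋙ (DCoh.LTensorCx K ⋙ DCoh.LTensorCx L) ⟶
      DCoh.tensorCxQ ((DCoh.tensorCx.obj K).obj L) :=
  (Functor.associator _ _ _).inv ≫ Functor.whiskerRight (ε K) (DCoh.LTensorCx L) ≫
    (Functor.associator _ _ _).hom ≫
    Functor.whiskerLeft ((DCoh.tensorCx (X := X)).flip.obj K) (ε L) ≫
    (Functor.associator _ _ _).inv ≫ Functor.whiskerRight (assocNat K L).hom DerivedCategory.Q

lemma β_app (N : CochainComplex X.Modules ℤ) :
    (β K L).app N = (DCoh.LTensorCx L).map ((ε K).app N) ≫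
      (ε L).app ((DCoh.tensorCx.obj N).obj K) ≫
      DerivedCategory.Q.map ((assocNat K L).hom.app N) := by
  dsimp [β]
  simp only [Category.id_comp]

theorem isIso_β_app (hL : DCoh.IsKFlat L) (P : CochainComplex X.Modules ℤ)
    (hP : DCoh.IsKFlat P) : IsIso ((β K L).app P) := by
  rw [β_app]
  haveI : IsIso ((ε K).app P) :=
    isIso_counit_app (Groth.Agent.Lib.Helper5.LTenAll.adaptedQ_tensorCxQ K)
      (DCoh.LTensorCx K) _ P hP
  haveI : IsIso (ε L) :=
    Functor.isIso_of_isLeftDerivedFunctor_of_inverts (DCoh.LTensorCx L) _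
      (Groth.Agent.Lib.Helper5.LTenDer.inverts_tensorCxQ L hL)
  infer_instance

/-- the comparison morphism -/
noncomputable def τ' :
    DCoh.LTensorCx K ⋙ DCoh.LTensorCx L ⟶ DCoh.LTensorCx ((DCoh.tensorCx.obj K).obj L) :=
  (DCoh.LTensorCx ((DCoh.tensorCx.obj K).obj L)).leftDerivedLift
    (ε ((DCoh.tensorCx.obj K).obj L))
    (HomologicalComplex.quasiIso X.Modules (ComplexShape.up ℤ)) _ (β K L)

theorem isIso_τ' (hL : DCoh.IsKFlat L) : IsIso (τ' K L) := by
  haveI : ∀ M : DCoh.D X, IsIso ((τ' K L).app M) := by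
    intro M
    let K₀ : CochainComplex X.Modules ℤ := DerivedCategory.Q.objPreimage M
    let e : DerivedCategory.Q.obj K₀ ≅ M := DerivedCategory.Q.objObjPreimageIso M
    obtain ⟨P, p, h1, _, h3, _⟩ :=
      Groth.Agent.Lib.Helper5.KFlatSiteQ.exists_isKFlat_resolution (O := X.sheaf) K₀
    have : QuasiIso p := h3
    let e' : DerivedCategory.Q.obj P ≅ M := asIso (DerivedCategory.Q.map p) ≪≫ e
    rw [← NatTrans.isIso_app_iff_of_iso (τ' K L) e']
    have h4 : (τ' K L).app (DerivedCategory.Q.obj P) ≫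
        (ε ((DCoh.tensorCx.obj K).obj L)).app P = (β K L).app P :=
      Functor.leftDerived_fac_app _ _ _ _ _ _
    have h6 : IsIso ((ε ((DCoh.tensorCx.obj K).obj L)).app P) :=
      isIso_counit_app (Groth.Agent.Lib.Helper5.LTenAll.adaptedQ_tensorCxQ _)
        (DCoh.LTensorCx ((DCoh.tensorCx.obj K).obj L)) _ P h1
    haveI := isIso_β_app K L hL P h1
    have h5 : IsIso ((τ' K L).app (DerivedCategory.Q.obj P) ≫
        (ε ((DCoh.tensorCx.obj K).obj L)).app P) := by rw [h4]; infer_instance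
    exact @IsIso.of_isIso_comp_right _ _ _ _ _ _ _ h6 h5
  exact NatIso.isIso_of_isIso_app _

/-- **associativity of the derived tensor product** -/
noncomputable def τ (hL : DCoh.IsKFlat L) :
    DCoh.LTensorCx K ⋙ DCoh.LTensorCx L ≅ DCoh.LTensorCx ((DCoh.tensorCx.obj K).obj L) :=
  haveI := isIso_τ' K L hL
  asIso (τ' K L)

/-- `RHom(K ⊗ L, -) ≅ RHom(K, RHom(L, -))` -/
noncomputable def rhomIso (hL : DCoh.IsKFlat L) [DCoh.HasRSheafHom K] [DCoh.HasRSheafHom L]
    [DCoh.HasRSheafHom ((DCoh.tensorCx.obj K).obj L)] :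
    DCoh.RSheafHom ((DCoh.tensorCx.obj K).obj L) ≅ DCoh.RSheafHom L ⋙ DCoh.RSheafHom K :=
  ((DCoh.RSheafHomAdj ((DCoh.tensorCx.obj K).obj L)).ofNatIsoLeft (τ K L hL).symm).rightAdjointUniq
    ((DCoh.RSheafHomAdj K).comp (DCoh.RSheafHomAdj L))

end Groth.Agent.Lib.Helper5.AssocD
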