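import Mathlib

/-!
# A bifunctor applied to a degreewise split short exact sequence of complexes (helper5)

For an additive bifunctor `F` and a cochain complex `K₂`, the functor
`K₁ ↦ Tot (F K₁ K₂)` maps degreewise split short exact sequences of cochain complexes to
degreewise split short exact sequences.
-/

set_option autoImplicit false
universe u
open CategoryTheory CategoryTheory.Limits HomologicalComplex

namespace Groth.Agent.Lib.Helper5.LTenTri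

variable {C₁ C₂ D : Type*} [Category C₁] [Category C₂] [Category D]
  [Preadditive C₁] [Preadditive C₂] [Preadditive D]
  (F : C₁ ⥤ C₂ ⥤ D) [F.Additive] [∀ X₁ : C₁, (F.obj X₁).Additive]
  [∀ (K₁ : CochainComplex C₁ ℤ) (K₂ : CochainComplex C₂ ℤ), CochainComplex.HasMapBifunctor K₁ K₂ F]

section Graded

variable {K₁ L₁ M₁ : CochainComplex C₁ ℤ} (K₂ : CochainComplex C₂ ℤ)

/-- the map induced on total complexes, in one degree, by a family of maps of the terms -/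
noncomputable def gmap (φ : ∀ p : ℤ, K₁.X p ⟶ L₁.X p) (n : ℤ) :
    (mapBifunctor K₁ K₂ F (ComplexShape.up ℤ)).X n ⟶
      (mapBifunctor L₁ K₂ F (ComplexShape.up ℤ)).X n :=
  mapBifunctorDesc (fun p q h => (F.map (φ p)).app (K₂.X q) ≫
    ιMapBifunctor L₁ K₂ F (ComplexShape.up ℤ) p q n h)

@[reassoc]
lemma ι_gmap (φ : ∀ p : ℤ, K₁.X p ⟶ L₁.X p) (p q n : ℤ)
    (h : ComplexShape.π (ComplexShape.up ℤ) (ComplexShape.up ℤ) (ComplexShape.up ℤ) (p, q) = n) :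
    ιMapBifunctor K₁ K₂ F (ComplexShape.up ℤ) p q n h ≫ gmap F K₂ φ n =
      (F.map (φ p)).app (K₂.X q) ≫ ιMapBifunctor L₁ K₂ F (ComplexShape.up ℤ) p q n h := by
  simp [gmap]

lemma gmap_comp (φ : ∀ p : ℤ, K₁.X p ⟶ L₁.X p) (ψ : ∀ p : ℤ, L₁.X p ⟶ M₁.X p) (n : ℤ) :
    gmap F K₂ (fun p => φ p ≫ ψ p) n = gmap F K₂ φ n ≫ gmap F K₂ ψ n := by
  apply mapBifunctor.hom_ext
  intro p q h
  rw [ι_gmap, ι_gmap_assoc, ι_gmap, Functor.map_comp, NatTrans.comp_app, Category.assoc]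

lemma gmap_id (n : ℤ) : gmap F K₂ (fun p => 𝟙 (K₁.X p)) n = 𝟙 _ := by
  apply mapBifunctor.hom_ext
  intro p q h
  rw [ι_gmap, CategoryTheory.Functor.map_id, NatTrans.id_app, Category.id_comp, Category.comp_id]

lemma gmap_eq_id (φ : ∀ p : ℤ, K₁.X p ⟶ K₁.X p) (h : ∀ p, φ p = 𝟙 (K₁.X p)) (n : ℤ) :
    gmap F K₂ φ n = 𝟙 _ := by
  obtain rfl : φ = fun p => 𝟙 (K₁.X p) := funext h
  exact gmap_id F K₂ n

lemma gmap_add (φ ψ : ∀ p : ℤ, K₁.X p ⟶ L₁.X p) (n : ℤ) :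
    gmap F K₂ (fun p => φ p + ψ p) n = gmap F K₂ φ n + gmap F K₂ ψ n := by
  apply mapBifunctor.hom_ext
  intro p q h
  rw [ι_gmap, Preadditive.comp_add, ι_gmap, ι_gmap, Functor.map_add, NatTrans.app_add,
    Preadditive.add_comp]

lemma gmap_of_hom (f : K₁ ⟶ L₁) (n : ℤ) :
    gmap F K₂ (fun p => f.f p) n = (mapBifunctorMap f (𝟙 K₂) F (ComplexShape.up ℤ)).f n := by
  apply mapBifunctor.hom_ext
  intro p q h
  rw [ι_gmap]
  rw [ι_mapBifunctorMap, HomologicalComplex.id_f, CategoryTheory.Functor.map_id, Category.id_comp]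

end Graded

instance additive_flip_obj (K₂ : CochainComplex C₂ ℤ) :
    (F.map₂CochainComplex.flip.obj K₂).Additive where
  map_add {K₁ L₁ f g} := by
    ext n
    have h1 := gmap_of_hom F K₂ (f + g) n
    have h2 := gmap_of_hom F K₂ f n
    have h3 := gmap_of_hom F K₂ g n
    have h4 := gmap_add F K₂ (fun p => f.f p) (fun p => g.f p) n
    rw [h2, h3] at h4
    exact h1.symm.trans h4

lemma split_aux {K₁ L₁ M₁ : CochainComplex C₁ ℤ} (K₂ : CochainComplex C₂ ℤ)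
    (f : K₁ ⟶ L₁) (g : L₁ ⟶ M₁) (r : ∀ p : ℤ, L₁.X p ⟶ K₁.X p) (s : ∀ p : ℤ, M₁.X p ⟶ L₁.X p)
    (hfr : ∀ p, f.f p ≫ r p = 𝟙 (K₁.X p)) (hsg : ∀ p, s p ≫ g.f p = 𝟙 (M₁.X p))
    (hid : ∀ p, r p ≫ f.f p + g.f p ≫ s p = 𝟙 (L₁.X p)) (n : ℤ) :
    ((mapBifunctorMap f (𝟙 K₂) F (ComplexShape.up ℤ)).f n ≫ gmap F K₂ r n = 𝟙 _) ∧
    (gmap F K₂ s n ≫ (mapBifunctorMap g (𝟙 K₂) F (ComplexShape.up ℤ)).f n = 𝟙 _) ∧
    (gmap F K₂ r n ≫ (mapBifunctorMap f (𝟙 K₂) F (ComplexShape.up ℤ)).f n +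
      (mapBifunctorMap g (𝟙 K₂) F (ComplexShape.up ℤ)).f n ≫ gmap F K₂ s n = 𝟙 _) := by
  have h1 := gmap_of_hom F K₂ f n
  have h1' := gmap_of_hom F K₂ g n
  refine ⟨?_, ?_, ?_⟩
  · rw [← h1, ← gmap_comp]
    exact gmap_eq_id F K₂ _ hfr n
  · rw [← h1', ← gmap_comp]
    exact gmap_eq_id F K₂ _ hsg n
  · rw [← h1, ← h1', ← gmap_comp, ← gmap_comp, ← gmap_add]
    exact gmap_eq_id F K₂ _ hid n

/-- the image of a degreewise split short complex of cochain complexes is degreewise split -/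
noncomputable def splittingMap (K₂ : CochainComplex C₂ ℤ) (S : ShortComplex (CochainComplex C₁ ℤ))
    (σ : ∀ n : ℤ, (S.map (eval C₁ (ComplexShape.up ℤ) n)).Splitting) (n : ℤ) :
    ((S.map (F.map₂CochainComplex.flip.obj K₂)).map (eval D (ComplexShape.up ℤ) n)).Splitting where
  r := gmap F K₂ (K₁ := S.X₂) (L₁ := S.X₁) (fun p => (σ p).r) n
  s := gmap F K₂ (K₁ := S.X₃) (L₁ := S.X₂) (fun p => (σ p).s) n
  f_r := (split_aux F K₂ S.f S.g (fun p => (σ p).r) (fun p => (σ p).s) (fun p => (σ p).f_r)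
    (fun p => (σ p).s_g) (fun p => (σ p).id) n).1
  s_g := (split_aux F K₂ S.f S.g (fun p => (σ p).r) (fun p => (σ p).s) (fun p => (σ p).f_r)
    (fun p => (σ p).s_g) (fun p => (σ p).id) n).2.1
  id := (split_aux F K₂ S.f S.g (fun p => (σ p).r) (fun p => (σ p).s) (fun p => (σ p).f_r)
    (fun p => (σ p).s_g) (fun p => (σ p).id) n).2.2

end Groth.Agent.Lib.Helper5.LTenTri
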