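import Mathlib
import Groth.Prelude.Def_DCoh4
import Groth.Agent.Lib.Helper5.LTen.LTenAll
import Groth.Agent.Lib.Helper5.LTen.DerInv
import Groth.Agent.Lib.Helper5.LTen.BifunSplit

/-!
# The derived tensor product maps distinguished triangles to distinguished triangles (helper5)

Existence form: for a distinguished triangle `T` of `D(O_X)` there is a distinguished triangle
with vertices `T.obj₁ ⊗^L K`, `T.obj₂ ⊗^L K`, `T.obj₃ ⊗^L K`.
-/

set_option autoImplicit false
universe u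
open CategoryTheory CategoryTheory.Limits AlgebraicGeometry
open Pretriangulated

attribute [local instance] HasDerivedCategory.standard

namespace Groth.Agent.Lib.Helper5.LTenTri

variable {X : Scheme.{u}}

/-- transport of a distinguished triangle along isomorphisms of its vertices -/
theorem exists_distinguished_of_isos' {C : Type*} [Category C] [Preadditive C] [HasZeroObject C]
    [HasShift C ℤ] [∀ n : ℤ, (shiftFunctor C n).Additive] [Pretriangulated C]
    (T : Triangle C) (hT : T ∈ distTriang C) {A B C' : C}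
    (eA : T.obj₁ ≅ A) (eB : T.obj₂ ≅ B) (eC : T.obj₃ ≅ C') :
    ∃ (a : A ⟶ B) (b : B ⟶ C') (c : C' ⟶ A⟦(1 : ℤ)⟧), Triangle.mk a b c ∈ distTriang C := by
  refine ⟨eA.inv ≫ T.mor₁ ≫ eB.hom, eB.inv ≫ T.mor₂ ≫ eC.hom,
    eC.inv ≫ T.mor₃ ≫ (shiftFunctor C (1 : ℤ)).map eA.hom, ?_⟩
  refine isomorphic_distinguished _ hT _ (Triangle.isoMk _ _ eA.symm eB.symm eC.symm ?_ ?_ ?_)
  · show (eA.inv ≫ T.mor₁ ≫ eB.hom) ≫ eB.inv = eA.inv ≫ T.mor₁
    rw [Category.assoc, Category.assoc, Iso.hom_inv_id, Category.comp_id]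
  · show (eB.inv ≫ T.mor₂ ≫ eC.hom) ≫ eC.inv = eB.inv ≫ T.mor₂
    rw [Category.assoc, Category.assoc, Iso.hom_inv_id, Category.comp_id]
  · show (eC.inv ≫ T.mor₃ ≫ (shiftFunctor C (1 : ℤ)).map eA.hom) ≫
      (shiftFunctor C (1 : ℤ)).map eA.inv = eC.inv ≫ T.mor₃
    rw [Category.assoc, Category.assoc, ← Functor.map_comp, Iso.hom_inv_id,
      CategoryTheory.Functor.map_id, Category.comp_id]

/-- tensoring with a complex maps the degreewise split short exact sequence of a mapping cone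
to a short exact sequence -/
theorem shortExact_tensor_cone (K' : CochainComplex X.Modules ℤ)
    {A B : CochainComplex X.Modules ℤ} (φ : A ⟶ B) :
    ((CochainComplex.mappingCone.triangleRotateShortComplex φ).map
      ((DCoh.tensorCx (X := X)).flip.obj K')).ShortExact := by
  apply HomologicalComplex.shortExact_of_degreewise_shortExact
  intro n
  exact (splittingMap (DCoh.tensorBi (X := X)) K' _
    (CochainComplex.mappingCone.triangleRotateShortComplexSplitting φ) n).shortExact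

/-- `E ⊗^L K` is computed by `E ⊗ K'` for a K-flat resolution `K' ⟶ K`, for every complex `E` -/
theorem nonempty_ltensor_iso (K : CochainComplex X.Modules ℤ) [DCoh.HasLTensorCx K]
    (K' : CochainComplex X.Modules ℤ) (hK' : DCoh.IsKFlat K') (k : K' ⟶ K) (hk : QuasiIso k)
    (E' : CochainComplex X.Modules ℤ) :
    Nonempty ((DCoh.LTensorCx K).obj (DerivedCategory.Q.obj E') ≅
      DerivedCategory.Q.obj (((DCoh.tensorCx (X := X)).flip.obj K').obj E')) := by
  obtain ⟨P, hP, ⟨eP⟩, ⟨eT⟩⟩ :=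
    Groth.Agent.Lib.Helper5.LTenAll.exists_ltensor_iso K (DerivedCategory.Q.obj E')
  haveI : QuasiIso (((DCoh.tensorCx (X := X)).obj P).map k) :=
    Groth.Agent.Lib.Helper5.LTenDer.quasiIso_tensor_obj P hP k hk
  let e2 : DerivedCategory.Q.obj ((DCoh.tensorCx.obj P).obj K') ≅
      DerivedCategory.Q.obj ((DCoh.tensorCx.obj P).obj K) :=
    asIso (DerivedCategory.Q.map (((DCoh.tensorCx (X := X)).obj P).map k))
  let e3 := Groth.Agent.Lib.Helper5.LTenDer.mapQIso ((DCoh.tensorCx (X := X)).flip.obj K')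
    (fun φ hφ => Groth.Agent.Lib.Helper5.LTenDer.quasiIso_tensor_flip K' hK' φ hφ) eP
  exact ⟨eT ≪≫ e2.symm ≪≫ e3⟩

/-- **`- ⊗^L K` maps distinguished triangles to distinguished triangles** (existence of the
maps) -/
theorem exists_distinguished_ltensor (K : CochainComplex X.Modules ℤ) [DCoh.HasLTensorCx K]
    (T : Triangle (DCoh.D X)) (hT : T ∈ distTriang (DCoh.D X)) :
    ∃ (a : (DCoh.LTensorCx K).obj T.obj₁ ⟶ (DCoh.LTensorCx K).obj T.obj₂)
      (b : (DCoh.LTensorCx K).obj T.obj₂ ⟶ (DCoh.LTensorCx K).obj T.obj₃)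
      (c : (DCoh.LTensorCx K).obj T.obj₃ ⟶ ((DCoh.LTensorCx K).obj T.obj₁)⟦(1 : ℤ)⟧),
      Triangle.mk a b c ∈ distTriang (DCoh.D X) := by
  obtain ⟨K', k, hK', _, hk, _⟩ :=
    Groth.Agent.Lib.Helper5.KFlatSiteQ.exists_isKFlat_resolution (O := X.sheaf) K
  have hk' : QuasiIso k := hk
  obtain ⟨A, B, φ, ⟨e⟩⟩ := (DerivedCategory.mem_distTriang_iff T).1 hT
  let G := (DCoh.tensorCx (X := X)).flip.obj K'
  have hS := shortExact_tensor_cone K' φ
  have hT' := DerivedCategory.triangleOfSES_distinguished hS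
  -- the vertices
  obtain ⟨eA⟩ := nonempty_ltensor_iso K K' hK' k hk' A
  obtain ⟨eB⟩ := nonempty_ltensor_iso K K' hK' k hk' B
  obtain ⟨eC⟩ := nonempty_ltensor_iso K K' hK' k hk' (CochainComplex.mappingCone φ)
  let e₁ : T.obj₁ ≅ DerivedCategory.Q.obj A := Triangle.π₁.mapIso e
  let e₂ : T.obj₂ ≅ DerivedCategory.Q.obj B := Triangle.π₂.mapIso e
  let e₃ : T.obj₃ ≅ DerivedCategory.Q.obj (CochainComplex.mappingCone φ) := Triangle.π₃.mapIso e
  -- inverse rotation
  have hR := inv_rot_of_distTriang _ hT'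
  let iA : (DerivedCategory.Q.obj (G.obj (A⟦(1 : ℤ)⟧)))⟦(-1 : ℤ)⟧ ≅
      (DCoh.LTensorCx K).obj T.obj₁ :=
    (shiftFunctor (DCoh.D X) (-1 : ℤ)).mapIso
      (DerivedCategory.Q.mapIso ((G.commShiftIso (1 : ℤ)).app A) ≪≫
        (DerivedCategory.Q.commShiftIso (1 : ℤ)).app (G.obj A)) ≪≫
      (shiftEquiv (DCoh.D X) (1 : ℤ)).unitIso.symm.app (DerivedCategory.Q.obj (G.obj A)) ≪≫
      eA.symm ≪≫ (DCoh.LTensorCx K).mapIso e₁.symm
  exact exists_distinguished_of_isos' _ hR iA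
    (eB.symm ≪≫ (DCoh.LTensorCx K).mapIso e₂.symm)
    (eC.symm ≪≫ (DCoh.LTensorCx K).mapIso e₃.symm)

end Groth.Agent.Lib.Helper5.LTenTri
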