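import Mathlib
import Groth.Prelude.Def_DCoh4
import Groth.Agent.Lib.Helper3.DCoprod
import Groth.Agent.Lib.Helper5.LTen.LTenAll
import Groth.Agent.Lib.Helper5.KFlatSite2.Res
import Groth.Agent.Lib.Helper5.KFlatSite2.Symm
import Groth.Agent.Lib.Helper5.Gen.MixCoprod
import Groth.Agent.Lib.Helper5.BvdB.Adj2

/-!
# The derived tensor product `- ⊗^L D` commutes with coproducts (helper5)
-/
set_option autoImplicit false
set_option linter.unusedSectionVars false
set_option linter.unusedVariables false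
universe u
open CategoryTheory CategoryTheory.Limits AlgebraicGeometry HomologicalComplex
attribute [local instance] HasDerivedCategory.standard

namespace Groth.Agent.Lib.Helper5.LTenCoprod

open DerivedCategory Groth.Agent.Helper3.DCoprod Helper5.Gen

variable {X : Scheme.{u}} (D : CochainComplex X.Modules ℤ) {J : Type u}

/-- the termwise coproduct is a coproduct of complexes -/
noncomputable def isColimitCK (K : J → CochainComplex X.Modules ℤ) :
    IsColimit (Cofan.mk (cK K) (inK K)) :=
  Cofan.IsColimit.mk _ (fun t => descK (fun j => t.inj j)) (fun t j => inK_descK _ j)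
    (fun t m hm => by
      refine HomologicalComplex.hom_ext _ _ (fun n => ?_)
      apply Limits.Sigma.hom_ext
      intro j
      have h1 := congrArg (fun φ => φ.f n) (hm j)
      have h2 := congrArg (fun φ => φ.f n) (inK_descK (fun j => t.inj j) j)
      exact h1.trans h2.symm)

/-- a coproduct of K-flat complexes is K-flat -/
theorem isKFlat_cK (P : J → CochainComplex X.Modules ℤ) (hP : ∀ j, DCoh.IsKFlat (P j)) :
    DCoh.IsKFlat (cK P) :=
  Groth.Agent.Lib.Helper5.KFlatSiteQ.isKFlat_of_isColimit X.sheaf (Discrete.functor P)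
    (Cofan.mk (cK P) (inK P)) (isColimitCK P) (fun ⟨j⟩ => hP j)

/-- `Q` sends coproduct cofans of complexes to coproduct cofans -/
noncomputable def isColimitQ {K : J → CochainComplex X.Modules ℤ} {T : CochainComplex X.Modules ℤ}
    {g : ∀ j, K j ⟶ T} (hc : IsColimit (Cofan.mk T g)) :
    IsColimit (Cofan.mk (Q.obj T) (fun j => Q.map (g j))) :=
  isColimitCofanOfIso (fun j => Iso.refl _)
    (Q.mapIso (IsColimit.coconePointUniqueUpToIso (isColimitCK K) hc))
    (fun j => by
      have h := IsColimit.comp_coconePointUniqueUpToIso_hom (isColimitCK K) hc ⟨j⟩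
      change inK K j ≫ _ = g j at h
      rw [Functor.mapIso_hom, ← Q.map_comp, h, Iso.refl_hom, Category.id_comp])
    (isColimitCofan K)

/-- `- ⊗ D` preserves the termwise coproduct -/
noncomputable def isColimitTensor (P : J → CochainComplex X.Modules ℤ) :
    IsColimit (Cofan.mk ((DCoh.tensorCx.obj (cK P)).obj D)
      (fun j => (DCoh.tensorCx.map (inK P j)).app D)) := by
  have h1 : IsColimit (((ModSite.tensorBi X.sheaf).map₂CochainComplex.obj D).mapCocone
      (Cofan.mk (cK P) (inK P))) :=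
    Groth.Agent.Lib.Helper5.Misc.KFlatGen.isColimitTot (ModSite.tensorBi X.sheaf) D _
      (isColimitCK P)
  have h2 : IsColimit (Cofan.mk ((DCoh.tensorCx.obj D).obj (cK P))
      (fun j => (DCoh.tensorCx.obj D).map (inK P j))) :=
    isColimitMapCoconeCofanMkEquiv _ _ _ h1
  refine isColimitCofanOfIso
    (fun j => Groth.Agent.Lib.Helper5.KFlatG.braid (ModSite.tensorBi X.sheaf)
      (Groth.Agent.Lib.Helper5.KFlatSiteQ.flipIso X.sheaf) D (P j))
    (Groth.Agent.Lib.Helper5.KFlatG.braid (ModSite.tensorBi X.sheaf)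
      (Groth.Agent.Lib.Helper5.KFlatSiteQ.flipIso X.sheaf) D (cK P))
    (fun j => ?_) h2
  exact Groth.Agent.Lib.Helper5.KFlatG.braid_naturality (ModSite.tensorBi X.sheaf)
    (Groth.Agent.Lib.Helper5.KFlatSiteQ.flipIso X.sheaf) (𝟙 D) (inK P j)

variable [DCoh.HasLTensorCx D]

/-- **`- ⊗^L D` preserves coproducts** -/
theorem presCoprod_LTensorCx : PresCoprod.{u} (DCoh.LTensorCx D) := by
  intro J C P g hc
  classical
  let K₀ : J → CochainComplex X.Modules ℤ := fun j => Q.objPreimage (C j)
  have hres : ∀ j, ∃ (F : CochainComplex X.Modules ℤ) (p : F ⟶ K₀ j),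
      DCoh.IsKFlat F ∧ QuasiIso p := fun j => by
    obtain ⟨F, p, h1, _, h3, _⟩ :=
      Groth.Agent.Lib.Helper5.KFlatSiteQ.exists_isKFlat_resolution (O := X.sheaf) (K₀ j)
    exact ⟨F, p, h1, h3⟩
  choose F p hF hp using hres
  let ε : ∀ j, Q.obj (F j) ≅ C j := fun j =>
    haveI := hp j
    asIso (Q.map (p j)) ≪≫ Q.objObjPreimageIso (C j)
  have hcK := isColimitCofan F
  have hc' : IsColimit (Cofan.mk P (fun j => (ε j).hom ≫ g j)) :=
    isColimitCofanOfIso (fun j => (ε j).symm) (Iso.refl P) (fun j => by simp) hc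
  let eP : Q.obj (cK F) ≅ P := IsColimit.coconePointUniqueUpToIso hcK hc'
  have heP : ∀ j, Q.map (inK F j) ≫ eP.hom = (ε j).hom ≫ g j := fun j =>
    IsColimit.comp_coconePointUniqueUpToIso_hom hcK hc' ⟨j⟩
  have hFc : DCoh.IsKFlat (cK F) := isKFlat_cK F hF
  have hcG := isColimitQ (isColimitTensor D F)
  let T := DCoh.LTensorCx D
  let α := (DCoh.tensorCxQ D).totalLeftDerivedCounit DerivedCategory.Q
      (HomologicalComplex.quasiIso X.Modules (ComplexShape.up ℤ))
  let m : ∀ (L : CochainComplex X.Modules ℤ), DCoh.IsKFlat L → (T.obj (Q.obj L) ≅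
      Q.obj ((DCoh.tensorCx.obj L).obj D)) :=
    fun L hL => Groth.Agent.Lib.Helper5.LTenAll.ltensorObjIsoOfKFlat D L hL
  have hm : ∀ L hL, (m L hL).hom = α.app L := fun L hL => rfl
  refine ⟨isColimitCofanOfIso
    (fun j => (m (F j) (hF j)).symm ≪≫ T.mapIso (ε j))
    ((m (cK F) hFc).symm ≪≫ T.mapIso eP) (fun j => ?_) hcG⟩
  have n1 : T.map (Q.map (inK F j)) ≫ (m (cK F) hFc).hom = (m (F j) (hF j)).hom ≫
      Q.map ((DCoh.tensorCx.map (inK F j)).app D) := by
    rw [hm, hm]
    exact α.naturality (inK F j)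
  have n2 : Q.map ((DCoh.tensorCx.map (inK F j)).app D) ≫ (m (cK F) hFc).inv =
      (m (F j) (hF j)).inv ≫ T.map (Q.map (inK F j)) := by
    rw [← cancel_mono (m (cK F) hFc).hom, Category.assoc, Iso.inv_hom_id, Category.comp_id,
      Category.assoc, n1, Iso.inv_hom_id_assoc]
  dsimp only [Iso.trans_hom, Iso.symm_hom, Functor.mapIso_hom]
  rw [← Category.assoc, n2, Category.assoc, Category.assoc, ← T.map_comp, ← T.map_comp, heP]

/-- **the canonical map `∐ (C_i ⊗^L D) ⟶ (∐ C_i) ⊗^L D` is an isomorphism** -/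
theorem isIso_sigmaComparison (C : J → DCoh.D X) [HasCoproduct C]
    [HasCoproduct (fun i => (DCoh.LTensorCx D).obj (C i))] :
    IsIso (Sigma.desc (fun i => (DCoh.LTensorCx D).map (Sigma.ι C i))) := by
  obtain ⟨h⟩ := presCoprod_LTensorCx D J C (∐ C) (Sigma.ι C) (coproductIsCoproduct C)
  haveI : PreservesColimit (Discrete.functor C) (DCoh.LTensorCx D) :=
    preservesColimit_of_preserves_colimit_cocone (coproductIsCoproduct C)
      ((isColimitMapCoconeCofanMkEquiv _ _ _).symm h)
  exact inferInstanceAs (IsIso (sigmaComparison (DCoh.LTensorCx D) C))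

end Groth.Agent.Lib.Helper5.LTenCoprod
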